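import Groth.Agent.FinDesc.Poincare
import Groth.Agent.AVPoinc.Dim
import Groth.Agent.AVEuler.Degenerate
import Groth.Agent.AVEuler.Isogeny
import Groth.Agent.AVDegLib.MulN
import Groth.Agent.GeomField.GlobalFunctions
import Groth.Agent.QCoh.CechStd
import Groth.Agent.ExtShX.Basic

/-!
# The degree of the map attached to an invertible module

The Euler characteristic of the Mumford module is computed through the Poincaré bundle and through the Künneth
formula; twisting the Mumford module by a module from one factor does not change it.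
-/

noncomputable section

set_option autoImplicit false
set_option backward.isDefEq.respectTransparency false
set_option backward.isDefEq.respectTransparency.types false
set_option linter.style.haveILetI false
set_option maxHeartbeats 1000000
set_option synthInstance.maxHeartbeats 400000

universe u

open CategoryTheory CategoryTheory.Limits MonoidalCategory CartesianMonoidalCategory MonObj AlgebraicGeometry TopologicalSpace

attribute [-instance] CategoryTheory.catToReflQuiver

namespace Groth.Agent.FinDesc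

open Groth.Agent.H23 Groth.Agent.H23.TrivBasic Groth.Agent.H23.CubeAb Groth.Agent.AVEuler Groth.Agent.AVDegPoly
open scoped Groth.Agent.H23.PicMul CategoryTheory.Obj

attribute [local instance] Groth.Agent.GeomField.globalAlgebra

variable {k : Type u} [Field k]

/-- the Euler characteristic of a point -/
theorem kappa_eq_one : kappa k = 1 := by
  let X := Spec (CommRingCat.of k)
  letI : X.Over (Spec (CommRingCat.of k)) := ⟨𝟙 _⟩
  show Curv2.euler k X (Coh.structureModule X) = 1
  refine (finsum_eq_single _ 0 fun i hi => ?_).trans ?_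
  · obtain ⟨j, rfl⟩ := Nat.exists_eq_succ_of_ne_zero hi
    haveI := QCoh.subsingleton_HH_of_isAffine (X := X) QCoh.isQCoh_structureModule j
    simp [Module.finrank_zero_of_subsingleton]
  · rw [GeomField.finrank_HH_zero k X]
    have e : k ≃ₗ[k] Γ(X, ⊤) :=
      { (Scheme.ΓSpecIso (CommRingCat.of k)).symm.commRingCatIsoToRingEquiv with
        map_smul' := fun r x => by
          show (Scheme.ΓSpecIso (CommRingCat.of k)).inv (r * x) = _
          rw [map_mul, Algebra.smul_def]
          rfl }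
    rw [← e.finrank_eq, Module.finrank_self]
    simp

/-- finite flat maps stay so on products -/
theorem isCover_whiskerLeft {S : Scheme.{u}} (A : Over S) {T T' : Over S} (g : T' ⟶ T) {d : ℕ}
    (hg : FinCov.IsCover g.left d) : FinCov.IsCover (A ◁ g).left d := by
  have sq := isPullback_proj A.hom g
  rw [PicZeroPrim.xtMap_eq] at sq
  obtain ⟨⟨h1, h2, h3⟩, hd⟩ := hg
  haveI : IsFinite (A ◁ g).left := MorphismProperty.of_isPullback sq.flip h1
  haveI : Flat (A ◁ g).left := MorphismProperty.of_isPullback sq.flip h2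
  haveI : LocallyOfFinitePresentation (A ◁ g).left := MorphismProperty.of_isPullback sq.flip h3
  exact ⟨⟨inferInstance, inferInstance, inferInstance⟩, fun y =>
    (Scheme.Hom.finrank_of_isPullback _ _ _ _ sq.flip y).trans (hd _)⟩

variable [IsAlgClosed k] {A : Over (Spec (CommRingCat.of k))} [GrpObj A] [IsProper A.hom]
  [GeometricallyIntegral A.hom]

/-- the Euler characteristic of the Mumford class -/
theorem chi_mumford {g : ℕ} (hg : topologicalKrullDim A.left = g) {u : (PicF.Cl A.left)ˣ}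
    (hu : PicF.IsInvertibleCl (u : PicF.Cl A.left)) [IsProper (A ⊗ A).hom]
    (hne : chi (A ⊗ A) ((R u (fst A A * snd A A) / (R u (fst A A) * R u (snd A A)) :
      (PicF.Cl (A ⊗ A).left)ˣ) : PicF.Cl (A ⊗ A).left) ≠ 0) :
    chi (A ⊗ A) ((R u (fst A A * snd A A) / (R u (fst A A) * R u (snd A A)) :
      (PicF.Cl (A ⊗ A).left)ˣ) : PicF.Cl (A ⊗ A).left) = (-1) ^ g * chi A (u : PicF.Cl A.left) ^ 2 := by
  haveI : IsCommMonObj A := isCommMonObj_of_isProper_of_geometricallyIntegral A
  haveI : IsIntegral A.left := GeometricallyIntegral.isIntegral_of_subsingleton A.hom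
  haveI : GeometricallyIntegral (A ⊗ A).hom := MaxAbelian.geometricallyIntegral_tensor A A
  letI : (A ⊗ A).left.Over (Spec (CommRingCat.of k)) := ⟨(A ⊗ A).hom⟩
  haveI : IsProper ((A ⊗ A).left ↘ Spec (CommRingCat.of k)) := inferInstanceAs (IsProper (A ⊗ A).hom)
  haveI : CompactSpace (A ⊗ A).left := AmpleVan.compactSpace_of_proper (A := k) (X := (A ⊗ A).left)
  haveI : IsNoetherian (A ⊗ A).left := CurveCohLib.isNoetherian_of_proper (k := k)
  obtain ⟨D, hD⟩ := AVDegPoly.exists_dim (A := A ⊗ A)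
  let p := fst A A
  let q := snd A A
  let B : (A ⊗ A ⟶ A) → (PicF.Cl (A ⊗ A).left)ˣ := fun b => R u (p * b) / (R u p * R u b)
  let Λ := B q
  let M := R u p
  have hBi : ∀ b, PicF.IsInvertibleCl (B b : PicF.Cl (A ⊗ A).left) := fun b => by
    simp only [B, div_eq_mul_inv, Units.val_mul]
    exact PicMul.isInvertibleCl_mul (isInvertibleCl_R hu _)
      (isInvertibleCl_units _ (by rw [Units.val_mul]; exact PicMul.isInvertibleCl_mul (isInvertibleCl_R hu _) (isInvertibleCl_R hu _)))
  have hB1 : B (1 : A ⊗ A ⟶ A) = 1 := by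
    simp only [B]
    rw [_root_.mul_one, show R u (1 : A ⊗ A ⟶ A) = 1 from Units.ext (F_one hu), _root_.mul_one, div_self']
  have hBmul : ∀ b c, B (b * c) = B b * B c := by
    intro b c
    have h := R_cube hu p b c
    simp only [B]
    rw [← _root_.mul_assoc p b c]
    apply Additive.ofMul.injective
    have h' := congrArg Additive.ofMul h
    simp only [ofMul_mul] at h'
    simp only [ofMul_mul, ofMul_div]
    rw [← sub_eq_zero] at h' ⊢
    rw [← h']
    abel
  have hBpow : ∀ n : ℕ, B (q ^ n) = Λ ^ n := by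
    intro n
    induction n with
    | zero => rw [pow_zero, pow_zero, hB1]
    | succ n ih => rw [pow_succ, pow_succ, hBmul, ih]
  -- the polynomial
  obtain ⟨P, -, hP⟩ := exists_poly_eulerCl k (X := (A ⊗ A).left) hD.le ![Λ, M] (fun i => by
    fin_cases i
    · exact hBi q
    · exact isInvertibleCl_R hu p)
  let c : ℤ → ℤ → ℤ := fun a b =>
    chi (A ⊗ A) ((Λ ^ a * M ^ b : (PicF.Cl (A ⊗ A).left)ˣ) : PicF.Cl (A ⊗ A).left)
  have hP' : ∀ a b : ℤ, (c a b : ℚ) = MvPolynomial.eval ![(a : ℚ), (b : ℚ)] P := by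
    intro a b
    have := hP ![a, b]
    rw [show (fun j => ((![a, b] j : ℤ) : ℚ)) = ![(a : ℚ), (b : ℚ)] from funext fun j => by fin_cases j <;> simp,
      Fin.prod_univ_two] at this
    exact this
  have hinv : ∀ a b : ℤ, PicF.IsInvertibleCl ((Λ ^ a * M ^ b : (PicF.Cl (A ⊗ A).left)ˣ) : PicF.Cl (A ⊗ A).left) :=
    fun a b => by
      rw [Units.val_mul]
      exact PicMul.isInvertibleCl_mul (isInvertibleCl_zpow Λ (hBi q) a)
        (isInvertibleCl_zpow M (isInvertibleCl_R hu p) b)
  -- homogeneity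
  have hhom : ∀ (n a b : ℤ), c (a * n) (b * n) = n ^ D * c a b := fun n a b => by
    show chi _ _ = _ * chi _ _
    rw [zpow_mul, zpow_mul, ← mul_zpow]
    exact chi_zpow hD (hinv a b) n
  -- isogenies
  have hiso : ∀ (n : ℕ), 1 ≤ n → ∀ b : ℤ, c n b = (n : ℤ) ^ (2 * g) * c 1 b := by
    intro n hn b
    let r : A ⟶ A := 𝟙 A ^ n
    haveI := AVMulN.isFinite_pow (A := A) n hn
    haveI := AVDegLib.flat_pow (A := A) n hn
    haveI := AVDegLib.lfp_endo r
    have hr : FinCov.IsCover r.left (n ^ (2 * g)) := ⟨⟨inferInstance, inferInstance, inferInstance⟩, fun y => by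
      have h := AVDegLib.finrank_zpow (A := A) hg (n : ℤ) (by exact_mod_cast (show n ≠ 0 by omega)) y
      rw [Int.natAbs_natCast] at h
      rw [← h, zpow_natCast]⟩
    let ν : A ⊗ A ⟶ A ⊗ A := A ◁ r
    obtain ⟨⟨h1, h2, -⟩, h3⟩ := isCover_whiskerLeft A r hr
    obtain ⟨E, hE, hEi⟩ := hinv 1 b
    have hpull : Units.map (PicMul.pullHom ν.left) (Λ ^ (1 : ℤ) * M ^ b) = Λ ^ (n : ℤ) * M ^ b := by
      have hp : ν ≫ p = p := whiskerLeft_fst _ _
      have hq : ν ≫ q = q ^ n := by
        show (A ◁ (𝟙 A ^ n)) ≫ snd A A = _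
        rw [whiskerLeft_snd, MonObj.comp_pow, Category.comp_id]
      rw [map_mul, map_zpow, map_zpow, zpow_one, zpow_natCast, R_comp, hp]
      congr 1
      show Units.map _ (R u (p * q) / (R u p * R u q)) = _
      rw [map_div, map_mul, R_comp, R_comp, R_comp, MonObj.comp_mul, hp, hq]
      exact hBpow n
    have h := euler_pullback_isogeny ν (n ^ (2 * g)) h3 (AmpleVan.isCoh_invertible hEi)
    rw [← chi_cl, ← chi_cl, hE] at h
    show chi _ _ = _ * chi _ _
    rw [← hpull]
    show chi _ (PicF.pullCl ν.left ((Λ ^ (1 : ℤ) * M ^ b : (PicF.Cl (A ⊗ A).left)ˣ) : PicF.Cl (A ⊗ A).left)) = _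
    rw [← hE]
    refine h.trans ?_
    rw [hE]
    push_cast
    rfl
  have hc10 : c 1 0 ≠ 0 := by
    show chi _ _ ≠ 0
    rw [zpow_one, zpow_zero, _root_.mul_one]
    exact hne
  have hD2 : D = 2 * g := by
    have e := (hhom 2 1 0).symm.trans ((congrArg₂ c (by norm_num) (by norm_num)).trans (hiso 2 (by norm_num) 0))
    have e' := mul_right_cancel₀ hc10 e
    exact Nat.pow_right_injective le_rfl (by exact_mod_cast e')
  -- the twist is invisible
  have hs : ∀ s : ℕ, 1 ≤ s → c 1 (s : ℤ) = c 1 1 := by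
    intro s hs
    have e1 := hiso s hs s
    have e2 := hhom (s : ℤ) 1 1
    rw [_root_.one_mul] at e2
    rw [e2, hD2] at e1
    exact (mul_left_cancel₀ (pow_ne_zero _ (by exact_mod_cast (show s ≠ 0 by omega))) e1).symm
  let Q : Polynomial ℚ := MvPolynomial.aeval ![Polynomial.C 1, Polynomial.X] P
  have hQ : ∀ s : ℤ, Q.eval (s : ℚ) = (c 1 s : ℚ) := fun s => by
    rw [hP', eval_aeval_poly]
    congr 2
    funext i
    fin_cases i <;> simp
  have hQc : Q = Polynomial.C (c 1 1 : ℚ) := poly_eq_of_large 1 fun s hs1 => by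
    rw [← Int.cast_natCast (R := ℚ) s, hQ, Polynomial.eval_C, hs s hs1]
  have h01 : c 1 0 = c 1 1 := by
    have := hQ 0
    rw [hQc, Polynomial.eval_C] at this
    exact_mod_cast this.symm
  -- the product
  obtain ⟨H, hH⟩ := AVProj.exists_isAmple (X := A)
  let σ : A ⊗ A ⟶ A ⊗ A := lift (p * q) q
  haveI : IsIso σ.left := by
    haveI : IsIso σ := ⟨lift (p * q⁻¹) q,
      by ext : 1 <;> simp [σ, p, q, MonObj.comp_mul, GrpObj.comp_inv],
      by ext : 1 <;> simp [σ, p, q, MonObj.comp_mul]⟩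
    exact (Over.forget _).map_isIso σ
  let X := R u p * R u⁻¹ q
  have hui := isInvertibleCl_units u hu
  have hXi : PicF.IsInvertibleCl (X : PicF.Cl (A ⊗ A).left) := by
    rw [Units.val_mul]
    exact PicMul.isInvertibleCl_mul (isInvertibleCl_R hu _) (isInvertibleCl_R hui _)
  have hσX : Units.map (PicMul.pullHom σ.left) X = Λ * M := by
    rw [map_mul, R_comp, R_comp, lift_fst, lift_snd]
    simp only [Λ, M, B]
    rw [show R u⁻¹ q = (R u q)⁻¹ from map_inv _ _]
    apply Additive.ofMul.injective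
    simp only [ofMul_mul, ofMul_div, ofMul_inv]
    abel
  have hbox := chi_box A A hg.le hD.le hH u hu u⁻¹ hui
  rw [kappa_eq_one, _root_.one_mul] at hbox
  have hneg := chi_zpow hg hu (-1)
  rw [zpow_neg_one] at hneg
  have h11 : c 1 1 = (-1) ^ g * chi A (u : PicF.Cl A.left) ^ 2 := by
    show chi _ _ = _
    rw [zpow_one, zpow_one, ← hσX]
    refine (chi_iso (A ⊗ A) σ hXi).trans (hbox.trans ?_)
    rw [hneg]
    ring
  rw [← h11, ← h01]
  show _ = chi _ _
  rw [zpow_one, zpow_zero, _root_.mul_one]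

omit [IsAlgClosed k] [GrpObj A] [IsProper A.hom] [GeometricallyIntegral A.hom] in
/-- finite flat maps to connected schemes are surjective -/
theorem surjective_of_connected {X Y : Scheme.{u}} [Nonempty X] [ConnectedSpace Y] (f : X ⟶ Y) [IsFinite f] [Flat f]
    [LocallyOfFinitePresentation f] : Surjective f := by
  refine ⟨Set.range_eq_univ.1 ((isClopen_iff.1 ⟨f.isClosedMap.isClosed_range, f.isOpenMap.isOpen_range⟩).resolve_left
    (Set.range_nonempty _).ne_empty)⟩

variable {At : Over (Spec (CommRingCat.of k))} [GrpObj At] [IsProper At.hom] [Smooth At.hom]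
  [GeometricallyConnected At.hom] [Smooth A.hom] [GeometricallyConnected A.hom]
  {φ : ∀ T : Over (Spec (CommRingCat.of k)), PicF.Cl (PicF.XT A.hom T) → (T ⟶ At)}

/-- the degree of the map attached to an invertible module is the square of its Euler characteristic -/
theorem euler_sq_eq_degree (hφ : AbDual.IsDualAV Scheme.fppfPrecoverage A At φ) {L : A.left.Modules}
    (hL : PicF.IsInvertible L) {cL' : PicF.Cl A.left} (hL' : PicF.cl L * cL' = 1)
    {cΛ : PicF.Cl (PicF.XT A.hom A)}
    (hΛ : cΛ = PicF.pullCl μ[A].left (PicF.cl L) * PicF.pullCl (fst A A).left cL' * PicF.pullCl (snd A A).left cL')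
    (hΛ0 : AbDual.IsPicZeroCl A.hom A cΛ) [IsFinite (φ A cΛ).left] [Flat (φ A cΛ).left] {d : ℕ}
    (hd : ∀ y : ↥At.left, Scheme.Hom.finrank (φ A cΛ).left y = d) :
    @Curv2.euler k _ A.left ⟨A.hom⟩ L ^ 2 = (d : ℤ) := by
  haveI : IsCommMonObj A := isCommMonObj_of_isProper_of_geometricallyIntegral A
  haveI : GeometricallyIntegral At.hom := AVDual.geometricallyIntegral_of_smooth At
  haveI : IsLocallyNoetherian At.left := LocallyOfFiniteType.isLocallyNoetherian At.hom
  haveI : IsIntegral A.left := GeometricallyIntegral.isIntegral_of_subsingleton A.hom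
  haveI : IsIntegral At.left := GeometricallyIntegral.isIntegral_of_subsingleton At.hom
  let f := φ A cΛ
  haveI : LocallyOfFinitePresentation f.left := inferInstance
  haveI : Surjective f.left := surjective_of_connected f.left
  have hcov : FinCov.IsCover f.left d := ⟨⟨inferInstance, inferInstance, inferInstance⟩, hd⟩
  -- rigidifications
  let u := (PicMul.isUnit_of_isInvertibleCl (⟨L, rfl, hL⟩ : PicF.IsInvertibleCl (PicF.cl L))).unit
  have hu : PicF.IsInvertibleCl (u : PicF.Cl A.left) := ⟨L, rfl, hL⟩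
  have hcl' : cL' = ((u⁻¹ : (PicF.Cl A.left)ˣ) : PicF.Cl A.left) := by
    rw [← Units.mul_right_inj u, Units.mul_inv]
    exact hL'
  have hΛu : cΛ = ((R u (fst A A * snd A A) / (R u (fst A A) * R u (snd A A)) :
      (PicF.Cl (A ⊗ A).left)ˣ) : PicF.Cl (A ⊗ A).left) := by
    rw [hΛ, hcl', show μ[A] = fst A A * snd A A by
      rw [Hom.mul_def, lift_fst_snd, Category.id_comp]]
    simp only [div_eq_mul_inv, _root_.mul_inv, Units.val_mul, ← map_inv]
    rw [← _root_.mul_assoc]
    rfl
  have hpull : ∀ a b : A ⟶ A, (a = 1 ∧ b = 𝟙 A) ∨ (a = 𝟙 A ∧ b = 1) →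
      PicF.pullCl (lift a b).left cΛ = 1 := by
    intro a b h
    rw [hΛu]
    show ((Units.map (PicMul.pullHom (lift a b).left) _ : (PicF.Cl A.left)ˣ) : PicF.Cl A.left) = 1
    rw [map_div, map_mul, R_comp, R_comp, R_comp, MonObj.comp_mul, lift_fst, lift_snd]
    rcases h with ⟨rfl, rfl⟩ | ⟨rfl, rfl⟩
    · rw [_root_.one_mul, show R u (1 : A ⟶ A) = 1 from Units.ext (F_one hu), _root_.one_mul, div_self', Units.val_one]
    · rw [_root_.mul_one, show R u (1 : A ⟶ A) = 1 from Units.ext (F_one hu), _root_.mul_one, div_self', Units.val_one]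
  have hs : PicF.pullCl (PicF.secT A.hom η[A].left (Over.w η[A]) A) cΛ = 1 := by
    rw [PicZeroPrim.secT_eq]
    exact hpull _ _ (Or.inl ⟨(Hom.one_def).symm, rfl⟩)
  have hslice : PicF.pullCl (lift (𝟙 A) (toUnit A ≫ η[A])).left cΛ = 1 :=
    hpull _ _ (Or.inr ⟨rfl, (Hom.one_def).symm⟩)
  obtain ⟨P, hP, hξ, hPc⟩ := exists_poincare hφ η[A] hΛ0 hs hslice hcov
  haveI : HasInjectiveResolutions (pullback A.hom At.hom).Modules := ExtShX.hasInjRes
  obtain ⟨g, hg⟩ := AVDegPoly.exists_dim (A := A)
  obtain ⟨hvan, hone, -, -⟩ := AVPoinc.main hφ hP hξ hg (AVPoinc.dim_eq hφ hP hξ hg)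
  -- the Poincaré bundle
  haveI : IsProper (A ⊗ A).hom := inferInstanceAs (IsProper (pullback.fst A.hom A.hom ≫ A.hom))
  haveI : IsProper (A ⊗ At).hom := inferInstanceAs (IsProper (pullback.fst A.hom At.hom ≫ A.hom))
  haveI : GeometricallyIntegral (A ⊗ A).hom := MaxAbelian.geometricallyIntegral_tensor A A
  haveI : IsLocallyNoetherian (A ⊗ At).left := LocallyOfFiniteType.isLocallyNoetherian (A ⊗ At).hom
  letI : (A ⊗ At).left.Over (Spec (CommRingCat.of k)) := ⟨(A ⊗ At).hom⟩
  have hχP : @Curv2.euler k _ (A ⊗ At).left ⟨(A ⊗ At).hom⟩ P = (-1) ^ g := by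
    refine (finsum_eq_single _ g fun i hi => ?_).trans ?_
    · haveI : Subsingleton (Coh.HH (pullback A.hom At.hom) P i) := hvan i hi
      simp
      exact @Module.finrank_zero_of_subsingleton _ _ _ (_) (_) _ _
    · refine (congrArg (fun n : ℕ => (-1 : ℤ) ^ g * (n : ℤ)) hone).trans ?_
      rw [Nat.cast_one, _root_.mul_one]
  obtain ⟨⟨h1, h2, -⟩, h3⟩ := isCover_whiskerLeft A f hcov
  have h4 := euler_pullback_isogeny (A ◁ f) d h3 (F := P) (AmpleVan.isCoh_invertible hP)
  rw [← chi_cl, hχP] at h4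
  have h5 : chi (A ⊗ A) cΛ = (d : ℤ) * (-1) ^ g := by
    refine Eq.trans ?_ h4
    refine congrArg (chi (A ⊗ A)) ?_
    rw [← hPc, PicZeroPrim.xtMap_eq]
    rfl
  have hd0 : d ≠ 0 := by
    have h := Scheme.Hom.one_le_finrank_map f.left (genericPoint A.left)
    rw [hd] at h
    omega
  have h6 := chi_mumford hg hu (by
    rw [← hΛu, h5]
    exact mul_ne_zero (by exact_mod_cast hd0) (pow_ne_zero _ (by norm_num)))
  rw [← hΛu, h5, mul_comm] at h6
  exact (mul_left_cancel₀ (pow_ne_zero _ (by norm_num : (-1 : ℤ) ≠ 0)) h6).symm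

end Groth.Agent.FinDesc

end
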