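import Groth.Agent.Lib.AbDualBase
import Groth.Prelude.Def_AgPol

/-!
# Base change of dual data

Dual data of a group scheme pulls back to dual data along any morphism of bases.
-/

noncomputable section

set_option autoImplicit false
set_option backward.isDefEq.respectTransparency false
set_option backward.isDefEq.respectTransparency.types false
set_option linter.style.haveILetI false
set_option maxHeartbeats 1000000
set_option synthInstance.maxHeartbeats 400000

universe u

open CategoryTheory CategoryTheory.Limits MonoidalCategory CartesianMonoidalCategory MonObj AlgebraicGeometry TopologicalSpace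

attribute [-instance] CategoryTheory.catToReflQuiver

namespace Groth.Agent.FinDesc

open Groth.Agent.H23 Groth.Agent.AbDualBase
open scoped Groth.Agent.H23.PicMul CategoryTheory.Obj

/-- classes in the connected component pull back along maps over a map of the parameters -/
theorem pz_of_maps' {S S' : Scheme.{u}} {X : Over S} {X' : Over S'} {T : Over S} {T' : Over S'}
    (g : T'.left ⟶ T.left) (m : PicF.XT X'.hom T' ⟶ PicF.XT X.hom T)
    (hm : m ≫ PicF.XTproj X.hom T = PicF.XTproj X'.hom T' ≫ g) {c : PicF.Cl (PicF.XT X.hom T)}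
    (h : AbDual.IsPicZeroCl X.hom T c) : AbDual.IsPicZeroCl X'.hom T' (PicF.pullCl m c) := by
  obtain ⟨L, rfl, hL, hLt⟩ := h
  refine ⟨_, rfl, PicClLib.isInvertible_pullback _ hL, fun t Ω _ _ σ hσ => ?_⟩
  have hr : Set.range (σ ≫ g) = {g t} := by
    rw [Scheme.Hom.comp_base, TopCat.coe_comp, Set.range_comp, hσ, Set.image_singleton]
  have h0 := hLt (g t) Ω (σ ≫ g) hr
  let e : pullback (PicF.XTproj X'.hom T') σ ⟶ pullback (PicF.XTproj X.hom T) (σ ≫ g) :=
    pullback.lift (pullback.fst _ σ ≫ m) (pullback.snd _ σ) (by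
      rw [Category.assoc, hm, pullback.condition_assoc])
  have h1 := AVDual.algEquivZero_pullback _ _ e (pullback.lift_snd _ _ _) h0
  refine @AVDual.algEquivZero_of_iso Ω _ _ ⟨pullback.snd _ σ⟩ _ _ ?_ h1
  exact (Scheme.Modules.pullbackComp _ _).app L ≪≫
    eqToIso (congrArg (fun m => (Scheme.Modules.pullback m).obj L) (pullback.lift_fst _ _ _)) ≪≫
    ((Scheme.Modules.pullbackComp _ _).app L).symm

variable {S S' : Scheme.{u}} (k : S' ⟶ S) (A At : Over S)

/-- a scheme over the new base, over the old one -/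
abbrev dn (U : Over S') : Over S := Over.mk (U.hom ≫ k)

/-- the tautological point -/
abbrev unitMap (U : Over S') : U ⟶ (Over.pullback k).obj (dn k U) :=
  Over.homMk (pullback.lift (𝟙 _) U.hom (Category.id_comp _)) (pullback.lift_snd _ _ _)

variable {k A At}

theorem bcDual_eq (φ : AgPol.DualMap A At) (U : Over S') (c : PicF.Cl (PicF.XT (Red.bc k A).hom U)) :
    AgPol.bcDual k A At φ U c =
      unitMap k U ≫ (Over.pullback k).map (φ (dn k U) (PicF.pullCl (AgPol.bcXTIso k A U).inv c)) := by
  refine Over.OverMorphism.ext (pullback.hom_ext ?_ ?_)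
  · simp [AgPol.bcDual, unitMap, Over.pullback]
    exact (Category.id_comp _).symm
  · simp [AgPol.bcDual, unitMap, Over.pullback]

theorem bcXTIso_inv_proj (U : Over S') :
    (AgPol.bcXTIso k A U).inv ≫ PicF.XTproj (Red.bc k A).hom U = PicF.XTproj A.hom (dn k U) :=
  pullbackLeftPullbackSndIso_inv_snd_snd _ _ _

theorem bcXTIso_hom_proj (U : Over S') :
    (AgPol.bcXTIso k A U).hom ≫ PicF.XTproj A.hom (dn k U) = PicF.XTproj (Red.bc k A).hom U := by
  rw [← bcXTIso_inv_proj, Iso.hom_inv_id_assoc]

theorem pz_inv {U : Over S'} {c : PicF.Cl (PicF.XT (Red.bc k A).hom U)}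
    (h : AbDual.IsPicZeroCl (Red.bc k A).hom U c) :
    AbDual.IsPicZeroCl A.hom (dn k U) (PicF.pullCl (AgPol.bcXTIso k A U).inv c) :=
  pz_of_maps' (X := Red.bc k A) (X' := A) (T := U) (T' := dn k U) (𝟙 U.left) (AgPol.bcXTIso k A U).inv
    (by rw [bcXTIso_inv_proj]; exact (Category.comp_id _).symm) h

theorem pz_hom {U : Over S'} {c : PicF.Cl (PicF.XT A.hom (dn k U))}
    (h : AbDual.IsPicZeroCl A.hom (dn k U) c) :
    AbDual.IsPicZeroCl (Red.bc k A).hom U (PicF.pullCl (AgPol.bcXTIso k A U).hom c) :=
  pz_of_maps' (X := A) (X' := Red.bc k A) (T := dn k U) (T' := U) (𝟙 U.left) (AgPol.bcXTIso k A U).hom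
    (by rw [bcXTIso_hom_proj]; exact (Category.comp_id _).symm) h

theorem pull_inv_hom {U : Over S'} (c : PicF.Cl (PicF.XT A.hom (dn k U))) :
    PicF.pullCl (AgPol.bcXTIso k A U).inv (PicF.pullCl (AgPol.bcXTIso k A U).hom c) = c := by
  rw [PicClLib.pullCl_comp, Iso.inv_hom_id, PicClLib.pullCl_id]

theorem inv_xtMap {U U' : Over S'} (g : U' ⟶ U) :
    (AgPol.bcXTIso k A U').inv ≫ PicF.XTmap (Red.bc k A).hom g =
      PicF.XTmap A.hom (Over.homMk g.left (by
        show g.left ≫ U.hom ≫ k = U'.hom ≫ k
        rw [← Category.assoc, Over.w g]) : dn k U' ⟶ dn k U) ≫ (AgPol.bcXTIso k A U).inv := by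
  apply pullback.hom_ext
  · apply pullback.hom_ext
    · simp [AgPol.bcXTIso, PicF.XTmap]
    · simp [AgPol.bcXTIso, PicF.XTmap]
  · simp [AgPol.bcXTIso, PicF.XTmap]

variable [GrpObj At] {φ : AgPol.DualMap A At} (hφ : AbDual.IsDualAV Scheme.fppfPrecoverage A At φ)
include hφ

/-- dual data pulls back to dual data -/
theorem isDualAV_bc : AbDual.IsDualAV Scheme.fppfPrecoverage (Red.bc k A) (Red.bc k At) (AgPol.bcDual k A At φ) where
  relPic :=
    { natural := fun U U' g c hc => by
        let g' : dn k U' ⟶ dn k U := Over.homMk g.left (by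
          show g.left ≫ U.hom ≫ k = U'.hom ≫ k
          rw [← Category.assoc, Over.w g])
        rw [bcDual_eq, bcDual_eq, PicClLib.pullCl_comp, inv_xtMap, ← PicClLib.pullCl_comp,
          hφ.relPic.natural _ _ g' _ (pz_inv hc), Functor.map_comp, ← Category.assoc, ← Category.assoc]
        congr 1
        refine Over.OverMorphism.ext (pullback.hom_ext ?_ ?_)
        · simp [g', unitMap, Over.pullback]
          exact Category.id_comp _
        · simp [g', unitMap, Over.pullback]
      locallySurjective := fun U g => by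
        let g₁ : dn k U ⟶ At := Over.homMk (g.left ≫ pullback.fst At.hom k) (by
          show (g.left ≫ pullback.fst At.hom k) ≫ At.hom = U.hom ≫ k
          rw [Category.assoc, pullback.condition, ← Category.assoc]
          exact congrArg (· ≫ k) (Over.w g))
        obtain ⟨R, hR, hs⟩ := hφ.relPic.locallySurjective (dn k U) g₁
        refine ⟨R, hR, fun W v hv => ?_⟩
        obtain ⟨c, hc, hcv⟩ := hs v hv
        let j : dn k (AbDual.ovr U v) ⟶ AbDual.ovr (dn k U) v := Over.homMk (𝟙 W) (by
          show 𝟙 W ≫ v ≫ U.hom ≫ k = (v ≫ U.hom) ≫ k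
          rw [Category.id_comp, Category.assoc])
        refine ⟨_, pz_hom (pz_xtMap j hc), ?_⟩
        rw [bcDual_eq, pull_inv_hom, hφ.relPic.natural _ _ j _ hc, hcv]
        refine Over.OverMorphism.ext (pullback.hom_ext ?_ ?_)
        · simp [j, g₁, unitMap, Over.pullback]
          exact Category.id_comp _
        · simp [j, g₁, unitMap, Over.pullback]
          exact (congrArg (v ≫ ·) (Over.w g)).symm
      locallyInjective := fun U c c' hc hc' h => by
        have h' : φ (dn k U) (PicF.pullCl (AgPol.bcXTIso k A U).inv c) =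
            φ (dn k U) (PicF.pullCl (AgPol.bcXTIso k A U).inv c') := by
          refine Over.OverMorphism.ext ?_
          have e := congrArg (fun m => m.left ≫ pullback.fst At.hom k) h
          simpa [AgPol.bcDual] using e
        obtain ⟨R, hR, hs⟩ := hφ.relPic.locallyInjective _ _ _ (pz_inv hc) (pz_inv hc') h'
        refine ⟨R, hR, fun W v hv => ?_⟩
        have e := hs v hv
        let j : dn k (AbDual.ovr U v) ⟶ AbDual.ovr (dn k U) v := Over.homMk (𝟙 W) (by
          show 𝟙 W ≫ v ≫ U.hom ≫ k = (v ≫ U.hom) ≫ k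
          rw [Category.id_comp, Category.assoc])
        have e' := congrArg (PicF.pullCl (PicF.XTmap A.hom j)) e
        have hx : PicF.XTmap A.hom j ≫ PicF.XTmap A.hom (AbDual.ovrHom (dn k U) v) ≫ (AgPol.bcXTIso k A U).inv =
            (AgPol.bcXTIso k A (AbDual.ovr U v)).inv ≫ PicF.XTmap (Red.bc k A).hom (AbDual.ovrHom U v) := by
          rw [inv_xtMap, ← Category.assoc, ← PicClLib.XTmap_comp]
          congr 1
        rw [← Category.assoc] at hx
        rw [PicClLib.pullCl_comp, PicClLib.pullCl_comp, PicClLib.pullCl_comp, PicClLib.pullCl_comp, hx,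
          ← PicClLib.pullCl_comp, ← PicClLib.pullCl_comp] at e'
        have e'' := congrArg (PicF.pullCl (AgPol.bcXTIso k A (AbDual.ovr U v)).hom) e'
        rwa [PicClLib.pullCl_comp (AgPol.bcXTIso k A (AbDual.ovr U v)).hom (AgPol.bcXTIso k A (AbDual.ovr U v)).inv,
          PicClLib.pullCl_comp (AgPol.bcXTIso k A (AbDual.ovr U v)).hom (AgPol.bcXTIso k A (AbDual.ovr U v)).inv,
          Iso.hom_inv_id, PicClLib.pullCl_id, PicClLib.pullCl_id] at e'' }
  mul := fun U L M hL hM => by
    rw [bcDual_eq, bcDual_eq, bcDual_eq, ← MonObj.comp_mul, ← Functor.map_mul,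
      ← phi_mul hφ (pz_inv hL) (pz_inv hM), ← PicMul.pullCl_mul]
    congr 3

end Groth.Agent.FinDesc

end
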