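import Groth.Agent.FinDesc.Degree
import Groth.Agent.EtFound.Descent
import Groth.Agent.H23.AlbFormal
import Groth.Agent.GrpSchLib.HomFlat

/-!
# Poincaré bundles over a field

The map attached to an ample module is finite, flat and surjective, so the dual of an abelian variety
carries a Poincaré bundle.
-/

noncomputable section

set_option autoImplicit false
set_option backward.isDefEq.respectTransparency false
set_option backward.isDefEq.respectTransparency.types false
set_option linter.style.haveILetI false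
set_option linter.unusedSectionVars false
set_option maxHeartbeats 1000000
set_option synthInstance.maxHeartbeats 400000

universe u

open CategoryTheory CategoryTheory.Limits MonoidalCategory CartesianMonoidalCategory MonObj AlgebraicGeometry TopologicalSpace

attribute [-instance] CategoryTheory.catToReflQuiver

namespace Groth.Agent.FinDesc

open Groth.Agent.H23 Groth.Agent.H23.TrivBasic Groth.Agent.H23.CubeAb Groth.Agent.AbDualBase
open scoped Groth.Agent.H23.PicMul CategoryTheory.Obj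

section points

variable {S : Scheme.{u}} {A At : Over S} [GrpObj A] [IsProper A.hom] [Smooth A.hom] [GeometricallyConnected A.hom]
  [GrpObj At] {φ : ∀ T : Over S, PicF.Cl (PicF.XT A.hom T) → (T ⟶ At)}
  (hφ : AbDual.IsDualAV Scheme.fppfPrecoverage A At φ)
  {Ω : Type u} [Field Ω] [IsAlgClosed Ω] (σ : Spec (CommRingCat.of Ω) ⟶ S)
  {cW cW' : PicF.Cl A.left} (hW : PicF.IsInvertibleCl cW) (hW' : PicF.IsInvertibleCl cW') (hWW' : cW * cW' = 1)
  {cΛ : PicF.Cl (PicF.XT A.hom A)}
  (hΛ : cΛ = PicF.pullCl μ[A].left cW * PicF.pullCl (fst A A).left cW' * PicF.pullCl (snd A A).left cW')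
  (hΛ0 : AbDual.IsPicZeroCl A.hom A cΛ)
include hφ hW hW' hWW' hΛ hΛ0

/-- the map attached to an ample module hits every geometric point -/
theorem exists_point
    (hamp : ∀ W : ((Over.pullback σ).obj A).left.Modules,
      PicF.cl W = PicF.pullCl (pullback.fst A.hom σ) cW → CohB1.IsAmple W)
    (y : Over.mk σ ⟶ At) : ∃ x : Over.mk σ ⟶ A, x ≫ φ A cΛ = y := by
  let T := Over.mk σ
  let AK := (Over.pullback σ).obj A
  haveI : GeometricallyIntegral AK.hom := geometricallyIntegral_fibre σ A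
  haveI : IsProper AK.hom := inferInstanceAs (IsProper (pullback.snd A.hom σ))
  letI : GrpObj AK := Functor.grpObjObj
  obtain ⟨c, hc, hcy⟩ := exists_class hφ σ y
  obtain ⟨L, hL, hcL, hz⟩ := algEquiv_of_pz σ hc
  obtain ⟨W, hWe, hWi⟩ := PicClLib.isInvertibleCl_pullCl (pullback.fst A.hom σ) hW
  have hinv : ∀ a, F (PicF.cl L) (tr a) = PicF.cl L := fun a => by
    have h := AVDecomp.additive hL hz (𝟙 AK) (toUnit AK ≫ a)
    refine h.trans ?_
    show F (PicF.cl L) (𝟙 AK) * F (PicF.cl L) (toUnit AK ≫ a) = _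
    rw [F_const ⟨L, rfl, hL⟩, _root_.mul_one]
    exact (show PicF.pullCl (𝟙 AK.left) (PicF.cl L) = PicF.cl L from PicClLib.pullCl_id _)
  obtain ⟨r, hr⟩ := AVVanish.exists_translate_eq AK (c := PicF.cl W) (d := PicF.cl L) ⟨W, rfl, hWi⟩ ⟨L, rfl, hL⟩
    ((S12002.result Ω AK W (hamp W hWe)).subset fun a ha => PicMul.cl_eq_iff.1 ha) hinv
  let x : T ⟶ A := Over.homMk (r.left ≫ pullback.fst A.hom σ) (by
    show (r.left ≫ pullback.fst A.hom σ) ≫ A.hom = σ
    rw [Category.assoc, pullback.condition, ← Category.assoc]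
    exact (congrArg (· ≫ σ) (Over.w r)).trans (Category.id_comp σ))
  refine ⟨x, ?_⟩
  have h2 : F (PicF.cl W) (tr r) = PicF.pullCl (fst A T * snd A T ≫ x).left cW := by
    show PicF.pullCl (tr r).left (PicF.cl W) = _
    rw [hWe, PicClLib.pullCl_comp]
    conv_lhs => rw [← AVPoinc.diag_map σ r]
    rw [AVPoinc.tr_left_fst]
  have hx : PicF.pullCl (PicF.XTmap A.hom x) cΛ =
      PicF.pullCl (fst A T * snd A T ≫ x).left cW * PicF.pullCl (fst A T).left cW' := by
    show PicMul.pullHom (A ◁ x).left cΛ = _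
    rw [hΛ]
    show PicMul.pullHom (A ◁ x).left (PicMul.pullHom μ[A].left cW * PicMul.pullHom (fst A A).left cW' *
      PicMul.pullHom (snd A A).left cW') = _
    rw [map_mul, map_mul]
    show PicF.pullCl (A ◁ x).left (PicF.pullCl μ[A].left cW) * PicF.pullCl (A ◁ x).left (PicF.pullCl (fst A A).left cW') *
      PicF.pullCl (A ◁ x).left (PicF.pullCl (snd A A).left cW') = _
    rw [PicClLib.pullCl_comp, PicClLib.pullCl_comp, PicClLib.pullCl_comp, ← Over.comp_left, ← Over.comp_left,
      ← Over.comp_left, whiskerLeft_fst, whiskerLeft_snd,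
      show (A ◁ x) ≫ μ[A] = fst A T * snd A T ≫ x by
        rw [Hom.mul_def]; exact congrArg (· ≫ μ[A]) (CartesianMonoidalCategory.hom_ext _ _ (by simp) (by simp)),
      Over.comp_left, ← PicClLib.pullCl_comp (snd A T).left x.left,
      AbDualBase.pullCl_point x.left hW', AbDualBase.pullCl_one', _root_.mul_one]
  rw [← hφ.relPic.natural _ _ x _ hΛ0, ← hcy]
  refine congrArg (φ T) ?_
  rw [hx, hcL, ← h2, hr]
  have h3 : PicF.pullCl (fst A T).left cW' * PicF.pullCl (fst A T).left cW = 1 := by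
    show PicMul.pullHom (fst A T).left cW' * PicMul.pullHom (fst A T).left cW = 1
    rw [← map_mul, mul_comm, hWW', map_one]
  have hWe' : PicF.cl W = PicF.pullCl (fst A T).left cW := hWe
  rw [hWe', _root_.mul_assoc, mul_comm (PicF.pullCl (fst A T).left cW), h3, _root_.mul_one]

omit [IsAlgClosed Ω] in
/-- the map attached to an ample module is surjective -/
theorem surjective_phi
    (hamp : ∀ (K : Type u) [Field K] [IsAlgClosed K] (τ : Spec (CommRingCat.of K) ⟶ S)
      (W : ((Over.pullback τ).obj A).left.Modules),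
      PicF.cl W = PicF.pullCl (pullback.fst A.hom τ) cW → CohB1.IsAmple W) :
    Surjective (φ A cΛ).left := by
  refine ⟨fun z => ?_⟩
  let K := AlgebraicClosure (At.left.residueField z)
  let j : Spec (CommRingCat.of K) ⟶ At.left :=
    Spec.map (CommRingCat.ofHom (algebraMap (At.left.residueField z) K)) ≫ At.left.fromSpecResidueField z
  obtain ⟨x, hx⟩ := exists_point hφ (j ≫ At.hom) hW hW' hWW' hΛ hΛ0 (hamp K _) (Over.homMk j rfl)
  refine ⟨x.left (IsLocalRing.closedPoint K), ?_⟩
  have e := congrArg CommaMorphism.left hx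
  have e' : (φ A cΛ).left (x.left (IsLocalRing.closedPoint K)) = j (IsLocalRing.closedPoint K) :=
    congr($e (IsLocalRing.closedPoint K))
  exact e'.trans (At.left.fromSpecResidueField_apply z _)

end points

section field

variable {k : Type u} [Field k] {A At : Over (Spec (CommRingCat.of k))}
  [GrpObj A] [IsProper A.hom] [Smooth A.hom] [GeometricallyConnected A.hom]
  [GrpObj At] [IsProper At.hom] [Smooth At.hom] [GeometricallyConnected At.hom]
  {φ : ∀ T : Over (Spec (CommRingCat.of k)), PicF.Cl (PicF.XT A.hom T) → (T ⟶ At)}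
  (hφ : AbDual.IsDualAV Scheme.fppfPrecoverage A At φ)
include hφ

/-- the map attached to an ample module is finite -/
theorem isFinite_phi {W : A.left.Modules} (hW : CohB1.IsAmple W) {cW' : PicF.Cl A.left}
    (hW' : PicF.IsInvertibleCl cW') (hWW' : PicF.cl W * cW' = 1) {cΛ : PicF.Cl (PicF.XT A.hom A)}
    (hΛ : cΛ = PicF.pullCl μ[A].left (PicF.cl W) * PicF.pullCl (fst A A).left cW' * PicF.pullCl (snd A A).left cW')
    (hΛ0 : AbDual.IsPicZeroCl A.hom A cΛ) : IsFinite (φ A cΛ).left := by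
  let σ : Spec (CommRingCat.of (AlgebraicClosure k)) ⟶ Spec (CommRingCat.of k) :=
    Spec.map (CommRingCat.ofHom (algebraMap k (AlgebraicClosure k)))
  haveI : Flat σ := by
    rw [HasRingHomProperty.Spec_iff (P := @Flat)]
    show (algebraMap k (AlgebraicClosure k)).Flat
    rw [RingHom.flat_algebraMap_iff]
    infer_instance
  haveI : Surjective σ := ⟨fun x => ⟨IsLocalRing.closedPoint _, (inferInstance : Subsingleton (PrimeSpectrum k)).elim _ _⟩⟩
  let f := φ A cΛ
  haveI := AVPoinc.isFinite_phi_fibre hφ σ ⟨W, rfl, hW.1⟩ hW' hWW' hΛ hΛ0 fun W₀ h₀ => by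
    refine AmpleX.isAmple_of_iso (PicMul.cl_eq_iff.1 h₀).some.symm ?_
    exact (AmpleX.isRelAmple_iff_isAmple (pullback.snd A.hom σ) _).1
      (AmpleX.isRelAmple_baseChange A.hom σ ((AmpleX.isRelAmple_iff_isAmple A.hom W).2 hW))
  have sq : IsPullback (pullback.fst A.hom σ) ((Over.pullback σ).map f).left f.left (pullback.fst At.hom σ) := by
    refine IsPullback.of_bot (v₂₁ := pullback.snd At.hom σ) (v₂₂ := At.hom) (h₃₁ := σ) ?_ ?_
      (IsPullback.of_hasPullback At.hom σ)
    · simpa [Over.pullback] using IsPullback.of_hasPullback A.hom σ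
    · simp [Over.pullback]
  haveI : MorphismProperty.DescendsAlong @IsFinite (@Surjective ⊓ @Flat ⊓ @QuasiCompact : MorphismProperty Scheme.{u}) :=
    EtFound.fpqc_isFinite
  have h1 : Surjective (pullback.fst At.hom σ) := inferInstance
  have h2 : Flat (pullback.fst At.hom σ) := inferInstance
  have h3 : QuasiCompact (pullback.fst At.hom σ) := inferInstance
  exact MorphismProperty.of_isPullback_of_descendsAlong (P := @IsFinite)
    (Q := (@Surjective ⊓ @Flat ⊓ @QuasiCompact : MorphismProperty Scheme.{u})) sq.flip ⟨⟨h1, h2⟩, h3⟩ ‹_›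

/-- there is a finite flat surjective map from the variety to its dual classifying a rigidified family -/
theorem exists_cover : ∃ (W : A.left.Modules) (cW' : PicF.Cl A.left) (cΛ : PicF.Cl (PicF.XT A.hom A)) (d : ℕ),
    CohB1.IsAmple W ∧ PicF.IsInvertibleCl cW' ∧ PicF.cl W * cW' = 1 ∧
      cΛ = PicF.pullCl μ[A].left (PicF.cl W) * PicF.pullCl (fst A A).left cW' * PicF.pullCl (snd A A).left cW' ∧
      AbDual.IsPicZeroCl A.hom A cΛ ∧ IsMonHom (φ A cΛ) ∧ FinCov.IsCover (φ A cΛ).left d ∧
      Surjective (φ A cΛ).left := by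
  haveI : GeometricallyIntegral A.hom := AVDual.geometricallyIntegral_of_smooth A
  haveI : GeometricallyIntegral At.hom := AVDual.geometricallyIntegral_of_smooth At
  haveI : IsIntegral At.left := GeometricallyIntegral.isIntegral_of_subsingleton At.hom
  haveI : IsLocallyNoetherian At.left := LocallyOfFiniteType.isLocallyNoetherian At.hom
  obtain ⟨W, cW', cΛ, hW, hW', hWW', hΛ, hΛ0⟩ := AVPoinc.exists_ample_family (A := A)
  let f := φ A cΛ
  haveI : IsFinite f.left := isFinite_phi hφ hW hW' hWW' hΛ hΛ0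
  haveI : Surjective f.left := surjective_phi hφ ⟨W, rfl, hW.1⟩ hW' hWW' hΛ hΛ0 fun K _ _ τ W₀ h₀ => by
    refine AmpleX.isAmple_of_iso (PicMul.cl_eq_iff.1 h₀).some.symm ?_
    exact (AmpleX.isRelAmple_iff_isAmple (pullback.snd A.hom τ) _).1
      (AmpleX.isRelAmple_baseChange A.hom τ ((AmpleX.isRelAmple_iff_isAmple A.hom W).2 hW))
  have h1 : η[A] ≫ f = η[At] := by
    rw [← hφ.relPic.natural _ _ η[A] _ hΛ0,
      show PicF.pullCl (PicF.XTmap A.hom η[A]) cΛ = (1 : PicF.Cl (PicF.XT A.hom (𝟙_ (Over (Spec (CommRingCat.of k)))))) from ?_,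
      phi_one hφ, Hom.one_def, toUnit_unique (toUnit (𝟙_ (Over (Spec (CommRingCat.of k))))) (𝟙 _), Category.id_comp]
    rw [PicZeroPrim.xtMap_eq, hΛ]
    show PicMul.pullHom (A ◁ η[A]).left (F (PicF.cl W) μ[A] * F cW' (fst A A) * F cW' (snd A A)) =
      (1 : PicF.Cl (A ⊗ 𝟙_ (Over (Spec (CommRingCat.of k)))).left)
    rw [map_mul, map_mul]
    refine (congrArg₂ (· * ·) (congrArg₂ (· * ·) (pull_F (A ◁ η[A]) _ _) (pull_F (A ◁ η[A]) _ _)) (pull_F (A ◁ η[A]) _ _)).trans ?_
    rw [whiskerLeft_fst, whiskerLeft_snd,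
      show (A ◁ η[A]) ≫ μ[A] = fst A (𝟙_ _) by rw [MonObj.mul_one]; rfl,
      show F cW' (snd A (𝟙_ _) ≫ η[A]) = 1 by
        rw [toUnit_unique (snd A (𝟙_ _)) (toUnit _)]; exact F_const hW' η[A],
      _root_.mul_one]
    show PicMul.pullHom _ (PicF.cl W) * PicMul.pullHom _ cW' = 1
    rw [← map_mul, hWW', map_one]
  haveI : IsMonHom f := AlbFormal.isMonHom_of_one f h1
  haveI : Flat f.left := GrpSchLib.flat_of_surjective_hom f
  haveI : LocallyOfFinitePresentation f.left := inferInstance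
  refine ⟨W, cW', cΛ, f.left.finrank (genericPoint At.left), hW, hW', hWW', hΛ, hΛ0, inferInstance,
    ⟨⟨inferInstance, inferInstance, inferInstance⟩, fun y => ?_⟩, inferInstance⟩
  exact (Scheme.Hom.isLocallyConstant_finrank f.left).apply_eq_of_preconnectedSpace y _

/-- a Poincaré bundle exists -/
theorem exists_poincare_field :
    ∃ P : (PicF.XT A.hom At).Modules, PicF.IsInvertible P ∧ AbDual.IsPoincareCl A At φ (PicF.cl P) := by
  haveI : GeometricallyIntegral A.hom := AVDual.geometricallyIntegral_of_smooth A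
  haveI : IsCommMonObj A := isCommMonObj_of_isProper_of_geometricallyIntegral A
  obtain ⟨W, cW', cΛ, d, hW, hW', hWW', hΛ, hΛ0, -, hcov, hsurj⟩ := exists_cover hφ
  haveI := hsurj
  have hpull : ∀ a b : A ⟶ A, (a = 1 ∧ b = 𝟙 A) ∨ (a = 𝟙 A ∧ b = 1) → PicF.pullCl (lift a b).left cΛ = 1 := by
    intro a b h
    rw [hΛ]
    show PicMul.pullHom _ (F (PicF.cl W) μ[A] * F cW' (fst A A) * F cW' (snd A A)) = 1
    rw [map_mul, map_mul, pull_F, pull_F, pull_F, lift_fst, lift_snd,
      show lift a b ≫ μ[A] = a * b from (Hom.mul_def _ _).symm]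
    have h1 : F cW' (1 : A ⟶ A) = 1 := F_one hW'
    have h2 : F (PicF.cl W) (𝟙 A) * F cW' (𝟙 A) = 1 := by
      show PicMul.pullHom _ (PicF.cl W) * PicMul.pullHom _ cW' = 1
      rw [← map_mul, hWW', map_one]
    rcases h with ⟨rfl, rfl⟩ | ⟨rfl, rfl⟩
    · rw [h1, _root_.one_mul, _root_.mul_one, h2]
    · rw [h1, _root_.mul_one, _root_.mul_one, h2]
  obtain ⟨P, hP, hξ, -⟩ := exists_poincare hφ η[A] hΛ0
    (by rw [PicZeroPrim.secT_eq]; exact hpull _ _ (Or.inl ⟨(Hom.one_def).symm, rfl⟩))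
    (hpull _ _ (Or.inr ⟨rfl, (Hom.one_def).symm⟩)) hcov
  exact ⟨P, hP, hξ⟩

end field

end Groth.Agent.FinDesc

end
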