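import Groth.Agent.FinDesc.Isogeny

/-!
# Pullback of polarisations along isogenies
-/

noncomputable section

set_option autoImplicit false
set_option backward.isDefEq.respectTransparency false
set_option backward.isDefEq.respectTransparency.types false
set_option linter.style.haveILetI false
set_option linter.unusedSectionVars false
set_option maxHeartbeats 1000000
set_option synthInstance.maxHeartbeats 400000

universe u

open CategoryTheory CategoryTheory.Limits MonoidalCategory CartesianMonoidalCategory MonObj AlgebraicGeometry TopologicalSpace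

attribute [-instance] CategoryTheory.catToReflQuiver

namespace Groth.Agent.FinDesc

open Groth.Agent.H23 Groth.Agent.H23.TrivBasic Groth.Agent.H23.CubeAb Groth.Agent.AbDualBase
open scoped Groth.Agent.H23.PicMul CategoryTheory.Obj

section bc

variable {S S' : Scheme.{u}} (k : S' ⟶ S) {X Xt Y Yt : Over S} [GrpObj Xt] [GrpObj Yt]
  {φX : AgPol.DualMap X Xt} {φY : AgPol.DualMap Y Yt}

/-- transposes pull back along changes of the base -/
theorem isTranspose_bc {f : X ⟶ Y} {ft : Yt ⟶ Xt} (hft : AbDual.IsTranspose f φX φY ft) :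
    AbDual.IsTranspose ((Over.pullback k).map f) (AgPol.bcDual k X Xt φX) (AgPol.bcDual k Y Yt φY)
      ((Over.pullback k).map ft) := by
  intro U c hc
  have h : (AgPol.bcXTIso k X U).inv ≫ AbDual.bcMap ((Over.pullback k).map f) U =
      AbDual.bcMap f (dn k U) ≫ (AgPol.bcXTIso k Y U).inv := by
    apply pullback.hom_ext
    · apply pullback.hom_ext
      · simp [AgPol.bcXTIso, AbDual.bcMap, Over.pullback]
      · simp [AgPol.bcXTIso, AbDual.bcMap, Over.pullback]
    · simp [AgPol.bcXTIso, AbDual.bcMap, Over.pullback]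
  rw [bcDual_eq, bcDual_eq, PicClLib.pullCl_comp, h, ← PicClLib.pullCl_comp, hft _ _ (pz_inv hc), Functor.map_comp,
    Category.assoc]

end bc

section field

variable {K : Type u} [Field K] {X Xt Y Yt : Over (Spec (CommRingCat.of K))}
  [GrpObj X] [GrpObj Xt] [GrpObj Y] [GrpObj Yt] [IsProper Y.hom] [GeometricallyIntegral Y.hom]
  {φX : AgPol.DualMap X Xt} {φY : AgPol.DualMap Y Yt} (hY : AbDual.IsDualAV Scheme.fppfPrecoverage Y Yt φY)

/-- the class of the module attached to a homomorphism lies in the connected component -/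
theorem pz_lambdaSheaf {L : Y.left.Modules} (hL : PicF.IsInvertible L) {N : (PicF.XT Y.hom Y).Modules}
    (hN : PicF.IsInvertible N)
    (h : AgPol.IsLambdaSheaf (μ[Y].left : PicF.XT Y.hom Y ⟶ Y.left) (fst Y Y).left (snd Y Y).left L N) :
    AbDual.IsPicZeroCl Y.hom Y (PicF.cl N) := by
  let cN : PicF.Cl (Y ⊗ Y).left := PicF.cl N
  have e : cN * F (PicF.cl L) (fst Y Y) * F (PicF.cl L) (snd Y Y) = F (PicF.cl L) μ[Y] :=
    (PicGrp.cl_eq_cl_iff _ _).2 h
  refine AVDual.pz_of_slice η[Y] ⟨N, rfl, hN⟩ ?_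
  have h' := congrArg (PicMul.pullHom (lift (𝟙 Y) (toUnit Y ≫ η[Y])).left) e
  rw [map_mul, map_mul, pull_F, pull_F, pull_F, lift_fst, lift_snd,
    show lift (𝟙 Y) (toUnit Y ≫ η[Y]) ≫ μ[Y] = 𝟙 Y by
      rw [show lift (𝟙 Y) (toUnit Y ≫ η[Y]) ≫ μ[Y] = 𝟙 Y * (toUnit Y ≫ η[Y]) from (Hom.mul_def _ _).symm,
        show toUnit Y ≫ η[Y] = (1 : Y ⟶ Y) from (Hom.one_def).symm, _root_.mul_one],
    F_const ⟨L, rfl, hL⟩, _root_.mul_one] at h'
  have hu : IsUnit (F (PicF.cl L) (𝟙 Y)) :=
    PicMul.isUnit_of_isInvertibleCl (PicClLib.isInvertibleCl_pullCl _ ⟨L, rfl, hL⟩)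
  exact hu.mul_eq_right.1 h'

include hY in
/-- the homomorphism attached to a pulled back module -/
theorem isLambda_pullback (f : X ⟶ Y) [IsMonHom f] {ft : Yt ⟶ Xt} (hft : AbDual.IsTranspose f φX φY ft)
    {L : Y.left.Modules} (hL : PicF.IsInvertible L) {lam : Y ⟶ Yt} (h : AgPol.IsLambda Y Yt φY L lam) :
    AgPol.IsLambda X Xt φX ((Scheme.Modules.pullback f.left).obj L) (f ≫ lam ≫ ft) := by
  obtain ⟨N, hN, hNL, rfl⟩ := h
  refine ⟨(Scheme.Modules.pullback (f ⊗ₘ f).left).obj N, PicClLib.isInvertible_pullback _ hN, ?_, ?_⟩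
  · let cN : PicF.Cl (Y ⊗ Y).left := PicF.cl N
    have e : cN * F (PicF.cl L) (fst Y Y) * F (PicF.cl L) (snd Y Y) = F (PicF.cl L) μ[Y] :=
      (PicGrp.cl_eq_cl_iff _ _).2 hNL
    have h' := congrArg (PicMul.pullHom (f ⊗ₘ f).left) e
    rw [map_mul, map_mul, pull_F, pull_F, pull_F, ← IsMonHom.mul_hom f, tensorHom_fst, tensorHom_snd] at h'
    refine (PicGrp.cl_eq_cl_iff _ _).1 ?_
    refine ((PicMul.cl_tensor _ _).trans (congrArg (· * _) (PicMul.cl_tensor _ _))).trans ?_
    show PicMul.pullHom (f ⊗ₘ f).left cN * PicMul.pullHom (fst X X).left (F (PicF.cl L) f) *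
      PicMul.pullHom (snd X X).left (F (PicF.cl L) f) = PicMul.pullHom μ[X].left (F (PicF.cl L) f)
    rw [pull_F, pull_F, pull_F]
    exact h'
  · exact phi_tensor_map hY hft (pz_lambdaSheaf hL hN hNL)

end field

end Groth.Agent.FinDesc

end
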