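import Groth.Agent.FinDesc.Polarization
import Groth.Agent.AVDegPoly.DetVal
import Groth.Agent.PurIso.Global

/-!
# The biduality morphism

The morphism into the double dual classified by a Poincaré class is a homomorphism and an isomorphism.
-/

noncomputable section

set_option autoImplicit false
set_option backward.isDefEq.respectTransparency false
set_option backward.isDefEq.respectTransparency.types false
set_option linter.style.haveILetI false
set_option linter.unusedSectionVars false
set_option maxHeartbeats 1000000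
set_option synthInstance.maxHeartbeats 400000

universe u

open CategoryTheory CategoryTheory.Limits MonoidalCategory CartesianMonoidalCategory MonObj AlgebraicGeometry TopologicalSpace

attribute [-instance] CategoryTheory.catToReflQuiver

namespace Groth.Agent.FinDesc

open Groth.Agent.H23 Groth.Agent.H23.TrivBasic Groth.Agent.H23.CubeAb Groth.Agent.AbDualBase Groth.Agent.AVEuler
open scoped Groth.Agent.H23.PicMul CategoryTheory.Obj

section base

variable {S : Scheme.{u}} {X Xt : Over S} [GrpObj X] [GrpObj Xt]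
  {φX : ∀ T : Over S, PicF.Cl (PicF.XT X.hom T) → (T ⟶ Xt)}
  {ξ : PicF.Cl (PicF.XT X.hom Xt)}

/-- a Poincaré class with exchanged factors is trivial over the unit of the group scheme -/
theorem symm_at_one (hξ : AbDual.IsPoincareCl X Xt φX ξ) :
    PicF.pullCl (PicF.XTmap Xt.hom η[X]) (PicF.pullCl (pullbackSymmetry Xt.hom X.hom).hom ξ) = 1 := by
  have e : PicF.XTmap Xt.hom η[X] ≫ (pullbackSymmetry Xt.hom X.hom).hom =
      pullback.fst Xt.hom (𝟙_ (Over S)).hom ≫ PicF.secT X.hom η[X].left (Over.w η[X]) Xt := by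
    apply pullback.hom_ext
    · rw [Category.assoc, pullbackSymmetry_hom_comp_fst, Category.assoc]
      simp only [PicF.XTmap, PicF.secT, pullback.lift_fst, pullback.lift_snd]
      rw [← Category.assoc, pullback.condition]
      simp
    · simp [PicF.XTmap, PicF.secT]
  rw [PicClLib.pullCl_comp, e, ← PicClLib.pullCl_comp, hξ.2.2]
  exact pullCl_one' _

variable [IsCommMonObj X] [IsProper X.hom] [Smooth X.hom] [GeometricallyConnected X.hom]

/-- a Poincaré class is trivial over the unit of the dual -/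
theorem poincare_at_one (hX : AbDual.IsDualAV Scheme.fppfPrecoverage X Xt φX) [IsProper Xt.hom]
    (hξ : AbDual.IsPoincareCl X Xt φX ξ) : PicF.pullCl (PicF.XTmap X.hom η[Xt]) ξ = 1 := by
  refine PicZeroPrim.eq_of_phi hX (pz_xtMap _ hξ.1) (pz_one _) ?_ ?_
  · rw [hX.relPic.natural _ _ _ _ hξ.1, hξ.2.1, Category.comp_id, phi_one hX, Hom.one_def,
      toUnit_unique (toUnit (𝟙_ (Over S))) (𝟙 _), Category.id_comp]
  · rw [PicClLib.pullCl_comp, secT_xtMap, ← PicClLib.pullCl_comp, hξ.2.2]
    exact (pullCl_one' _).trans (pullCl_one' _).symm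

variable {Xtt : Over S} [GrpObj Xtt] [IsSeparated Xtt.hom]
  {φXt : ∀ T : Over S, PicF.Cl (PicF.XT Xt.hom T) → (T ⟶ Xtt)}

/-- the biduality morphism is a homomorphism -/
theorem isMonHom_biduality (hXt : AbDual.IsDualAV Scheme.fppfPrecoverage Xt Xtt φXt)
    (hξ : AbDual.IsPoincareCl X Xt φX ξ)
    (hξ' : AbDual.IsPicZeroCl Xt.hom X (PicF.pullCl (pullbackSymmetry Xt.hom X.hom).hom ξ)) :
    IsMonHom (φXt X (PicF.pullCl (pullbackSymmetry Xt.hom X.hom).hom ξ)) := by
  haveI : GeometricallyReduced X.hom := RigidGamma.geometricallyReduced_of_smooth X.hom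
  refine RigidAb.isMonHom_of_one _ ?_
  rw [← hXt.relPic.natural _ _ η[X] _ hξ', symm_at_one hξ, phi_one hXt, Hom.one_def,
    toUnit_unique (toUnit (𝟙_ (Over S))) (𝟙 _), Category.id_comp]

end base

section field

variable {k : Type u} [Field k] {A B Bt : Over (Spec (CommRingCat.of k))}
  [GrpObj A] [IsProper A.hom] [Smooth A.hom] [GeometricallyConnected A.hom]
  [GrpObj B] [IsProper B.hom] [Smooth B.hom] [GeometricallyConnected B.hom]
  [GrpObj Bt] [IsProper Bt.hom] [Smooth Bt.hom] [GeometricallyConnected Bt.hom]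
  {φ : ∀ T : Over (Spec (CommRingCat.of k)), PicF.Cl (PicF.XT B.hom T) → (T ⟶ Bt)}
  (hφ : AbDual.IsDualAV Scheme.fppfPrecoverage B Bt φ)

include hφ in
/-- classifying maps of rigidified families with Euler characteristic of absolute value one are isomorphisms -/
theorem isIso_of_natAbs_chi {g : ℕ} (hA : topologicalKrullDim A.left = g) (hB : topologicalKrullDim B.left = g)
    {c : PicF.Cl (PicF.XT B.hom A)} (hc : AbDual.IsPicZeroCl B.hom A c)
    (hcB : PicF.pullCl (PicF.secT B.hom η[B].left (Over.w η[B]) A) c = 1)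
    (hcA : PicF.pullCl (PicF.XTmap B.hom η[A]) c = 1) [IsProper (B ⊗ A).hom]
    (h : (chi (B ⊗ A) c).natAbs = 1) : IsIso (φ A c) := by
  haveI : GeometricallyIntegral A.hom := AVDual.geometricallyIntegral_of_smooth A
  haveI : GeometricallyIntegral B.hom := AVDual.geometricallyIntegral_of_smooth B
  haveI : GeometricallyIntegral Bt.hom := AVDual.geometricallyIntegral_of_smooth Bt
  haveI : IsCommMonObj B := isCommMonObj_of_isProper_of_geometricallyIntegral B
  let f := φ A c
  have h1 : η[A] ≫ f = η[Bt] := by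
    rw [← hφ.relPic.natural _ _ η[A] _ hc, hcA, phi_one hφ, Hom.one_def, toUnit_unique (toUnit (𝟙_ _)) (𝟙 _),
      Category.id_comp]
  haveI : IsMonHom f := AlbFormal.isMonHom_of_one f h1
  haveI : IsProper (B ⊗ Bt).hom := inferInstanceAs (IsProper (pullback.fst B.hom Bt.hom ≫ B.hom))
  haveI : GeometricallyIntegral (B ⊗ A).hom := MaxAbelian.geometricallyIntegral_tensor B A
  obtain ⟨P, hP, hξ⟩ := exists_poincare_field hφ
  have hcl : F (PicF.cl P) (B ◁ f) = c := by
    have h := pull_poincare hφ hξ hc hcB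
    rwa [PicZeroPrim.xtMap_eq] at h
  have hP1 : chi (B ⊗ Bt) (PicF.cl P) = (-1) ^ g := chi_poincare hφ hP hξ hB
  have hne : chi (B ⊗ A) (F (PicF.cl P) (B ◁ f)) ≠ 0 := by
    rw [hcl]
    intro h0
    rw [h0] at h
    exact zero_ne_one h
  haveI := isFinite_of_whiskerLeft (A := B) f (isFinite_of_chi_ne_zero (B ◁ f) ⟨P, rfl, hP⟩ hne)
  haveI : IsIntegral A.left := GeometricallyIntegral.isIntegral_of_subsingleton A.hom
  haveI : IsIntegral Bt.left := GeometricallyIntegral.isIntegral_of_subsingleton Bt.hom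
  haveI : IsLocallyNoetherian Bt.left := LocallyOfFiniteType.isLocallyNoetherian Bt.hom
  obtain ⟨hs, hfl, -⟩ := AVDegPoly.finite_props f hA (dim_dual hφ hB)
  haveI := hfl
  haveI : LocallyOfFinitePresentation f.left := inferInstance
  have hcov : FinCov.IsCover f.left (f.left.finrank (genericPoint Bt.left)) :=
    ⟨⟨inferInstance, inferInstance, inferInstance⟩, fun y =>
      (Scheme.Hom.isLocallyConstant_finrank f.left).apply_eq_of_preconnectedSpace y _⟩
  have e := chi_pull (B ◁ f) (isCover_whiskerLeft B f hcov) (c := PicF.cl P) ⟨P, rfl, hP⟩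
  rw [hcl, hP1] at e
  rw [e, Int.natAbs_mul, Int.natAbs_natCast, Int.natAbs_pow] at h
  simp only [Int.natAbs_neg, Int.natAbs_one, one_pow] at h
  rw [_root_.mul_one] at h
  haveI : IsIso f.left := (Scheme.Hom.isIso_iff_finrank_eq f.left).2 (funext fun y => by rw [hcov.2 y, h]; rfl)
  haveI : IsIso ((Over.forget _).map f) := ‹IsIso f.left›
  exact CategoryTheory.isIso_of_reflects_iso f (Over.forget _)

variable {φA : ∀ T : Over (Spec (CommRingCat.of k)), PicF.Cl (PicF.XT A.hom T) → (T ⟶ B)}

include hφ in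
/-- biduality over a field -/
theorem isIso_biduality_field (hA : AbDual.IsDualAV Scheme.fppfPrecoverage A B φA)
    {ξ : PicF.Cl (PicF.XT A.hom B)} (hξ : AbDual.IsPoincareCl A B φA ξ)
    (hξ' : AbDual.IsPicZeroCl B.hom A (PicF.pullCl (pullbackSymmetry B.hom A.hom).hom ξ)) :
    IsIso (φ A (PicF.pullCl (pullbackSymmetry B.hom A.hom).hom ξ)) := by
  haveI : GeometricallyIntegral A.hom := AVDual.geometricallyIntegral_of_smooth A
  haveI : GeometricallyIntegral B.hom := AVDual.geometricallyIntegral_of_smooth B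
  haveI : IsCommMonObj A := isCommMonObj_of_isProper_of_geometricallyIntegral A
  obtain ⟨g, hg⟩ := AVDegPoly.exists_dim (A := A)
  haveI : IsProper (A ⊗ B).hom := inferInstanceAs (IsProper (pullback.fst A.hom B.hom ≫ A.hom))
  haveI : IsProper (B ⊗ A).hom := inferInstanceAs (IsProper (pullback.fst B.hom A.hom ≫ B.hom))
  haveI : GeometricallyIntegral (B ⊗ A).hom := MaxAbelian.geometricallyIntegral_tensor B A
  refine isIso_of_natAbs_chi hφ hg (dim_dual hA hg) hξ' ?_ (symm_at_one hξ) ?_
  · have e : PicF.secT B.hom η[B].left (Over.w η[B]) A ≫ (pullbackSymmetry B.hom A.hom).hom =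
        pullback.lift (𝟙 _) A.hom (by simp) ≫ PicF.XTmap A.hom η[B] := by
      apply pullback.hom_ext
      · simp [PicF.XTmap, PicF.secT]
      · simp [PicF.XTmap, PicF.secT]
    rw [PicClLib.pullCl_comp, e, ← PicClLib.pullCl_comp, poincare_at_one hA hξ]
    exact pullCl_one' _
  · obtain ⟨P, hP, hPinv, -⟩ := hξ.1
    let w : B ⊗ A ⟶ A ⊗ B := Over.homMk (pullbackSymmetry B.hom A.hom).hom (by
      show (pullbackSymmetry B.hom A.hom).hom ≫ pullback.fst A.hom B.hom ≫ A.hom = pullback.fst B.hom A.hom ≫ B.hom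
      rw [pullbackSymmetry_hom_comp_fst_assoc, pullback.condition])
    haveI : IsIso w.left := inferInstanceAs (IsIso (pullbackSymmetry B.hom A.hom).hom)
    haveI : IsLocallyNoetherian (A ⊗ B).left := LocallyOfFiniteType.isLocallyNoetherian (A ⊗ B).hom
    have hcov : FinCov.IsCover w.left 1 := ⟨⟨inferInstance, inferInstance, inferInstance⟩, fun y =>
      congrFun ((Scheme.Hom.isIso_iff_finrank_eq w.left).1 inferInstance) y⟩
    have e := chi_pull w hcov (c := ξ) ⟨P, hP, hPinv⟩
    show (chi (B ⊗ A) (F ξ w)).natAbs = 1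
    rw [e, ← hP, chi_poincare hA hPinv (by rw [hP]; exact hξ) hg]
    simp

end field

section fibres

variable {S : Scheme.{u}} {X Xt Xtt : Over S} [GrpObj X] [IsCommMonObj X] [GrpObj Xt] [GrpObj Xtt]
  [IsProper X.hom] [Smooth X.hom] [GeometricallyConnected X.hom]
  [IsProper Xt.hom] [Smooth Xt.hom] [GeometricallyConnected Xt.hom]
  [IsProper Xtt.hom] [Smooth Xtt.hom] [GeometricallyConnected Xtt.hom]
  {φX : ∀ T : Over S, PicF.Cl (PicF.XT X.hom T) → (T ⟶ Xt)}
  {φXt : ∀ T : Over S, PicF.Cl (PicF.XT Xt.hom T) → (T ⟶ Xtt)}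
  (hX : AbDual.IsDualAV Scheme.fppfPrecoverage X Xt φX) (hXt : AbDual.IsDualAV Scheme.fppfPrecoverage Xt Xtt φXt)
  {ξ : PicF.Cl (PicF.XT X.hom Xt)}

/-- the first projection of a base change, over the old base -/
abbrev dnProj {S' : Scheme.{u}} (k : S' ⟶ S) (U : Over S) : dn k (Red.bc k U) ⟶ U :=
  Over.homMk (pullback.fst U.hom k) (pullback.condition (f := U.hom) (g := k))

/-- the value of base changed dual data on a pulled back class -/
theorem bcDual_pull {S' : Scheme.{u}} (k : S' ⟶ S) {A At : Over S} [GrpObj At] {φ : AgPol.DualMap A At}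
    (hφ : AbDual.IsDualAV Scheme.fppfPrecoverage A At φ) (U : Over S) {c : PicF.Cl (PicF.XT A.hom U)}
    (hc : AbDual.IsPicZeroCl A.hom U c) :
    AgPol.bcDual k A At φ (Red.bc k U)
        (PicF.pullCl (AgPol.bcXTIso k A (Red.bc k U)).hom (PicF.pullCl (PicF.XTmap A.hom (dnProj k U)) c)) =
      (Over.pullback k).map (φ U c) := by
  rw [bcDual_eq, pull_inv_hom, hφ.relPic.natural _ _ _ _ hc]
  refine Over.OverMorphism.ext (pullback.hom_ext ?_ ?_)
  · simp [unitMap, Over.pullback]
    exact Category.id_comp _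
  · simp [unitMap, Over.pullback]

/-- the unit section of a base change -/
theorem one_left_fst {S' : Scheme.{u}} (k : S' ⟶ S) (G : Over S) [GrpObj G] :
    η[Red.bc k G].left ≫ pullback.fst G.hom k = k ≫ η[G].left := by
  simp [Functor.obj.η_def]

/-- Poincaré classes pull back along changes of the base -/
theorem isPoincareCl_bc {S' : Scheme.{u}} (k : S' ⟶ S) (hX : AbDual.IsDualAV Scheme.fppfPrecoverage X Xt φX)
    (hξ : AbDual.IsPoincareCl X Xt φX ξ) :
    AbDual.IsPoincareCl (Red.bc k X) (Red.bc k Xt) (AgPol.bcDual k X Xt φX)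
      (PicF.pullCl (AgPol.bcXTIso k X (Red.bc k Xt)).hom (PicF.pullCl (PicF.XTmap X.hom (dnProj k Xt)) ξ)) := by
  refine ⟨pz_hom (pz_xtMap _ hξ.1), ?_, ?_⟩
  · rw [bcDual_pull k hX Xt hξ.1, hξ.2.1]
    exact (Over.pullback k).map_id Xt
  · have e : PicF.secT (Red.bc k X).hom η[Red.bc k X].left (Over.w η[Red.bc k X]) (Red.bc k Xt) ≫
        (AgPol.bcXTIso k X (Red.bc k Xt)).hom ≫ PicF.XTmap X.hom (dnProj k Xt) =
        pullback.fst Xt.hom k ≫ PicF.secT X.hom η[X].left (Over.w η[X]) Xt := by
      apply pullback.hom_ext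
      · simp [PicF.XTmap, PicF.secT, AgPol.bcXTIso]
        exact (pullback.condition_assoc η[X].left).symm
      · simp [PicF.XTmap, PicF.secT, AgPol.bcXTIso]
        exact Category.id_comp _
    show PicF.pullCl _ _ = 1
    rw [PicClLib.pullCl_comp, PicClLib.pullCl_comp, Category.assoc, e, ← PicClLib.pullCl_comp, hξ.2.2]
    exact pullCl_one' _

include hX hXt in
/-- biduality -/
theorem isIso_biduality (hξ : AbDual.IsPoincareCl X Xt φX ξ)
    (hξ' : AbDual.IsPicZeroCl Xt.hom X (PicF.pullCl (pullbackSymmetry Xt.hom X.hom).hom ξ)) :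
    IsIso (φXt X (PicF.pullCl (pullbackSymmetry Xt.hom X.hom).hom ξ)) := by
  let f := φXt X (PicF.pullCl (pullbackSymmetry Xt.hom X.hom).hom ξ)
  haveI : IsProper (f.left ≫ Xtt.hom) := by rw [Over.w f]; infer_instance
  haveI : IsProper f.left := IsProper.of_comp f.left Xtt.hom
  haveI : Flat (f.left ≫ Xtt.hom) := by rw [Over.w f]; infer_instance
  haveI : LocallyOfFinitePresentation (f.left ≫ Xtt.hom) := by rw [Over.w f]; infer_instance
  have hi : IsIso f.left := by
    refine PurIso.isIso_of_forall_isoOver (h := Xtt.hom) fun s => ?_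
    let k := S.fromSpecResidueField s
    haveI : IsProper (Red.bc k X).hom := inferInstanceAs (IsProper (pullback.snd X.hom k))
    haveI : Smooth (Red.bc k X).hom := inferInstanceAs (Smooth (pullback.snd X.hom k))
    haveI : GeometricallyConnected (Red.bc k X).hom := inferInstanceAs (GeometricallyConnected (pullback.snd X.hom k))
    haveI : IsProper (Red.bc k Xt).hom := inferInstanceAs (IsProper (pullback.snd Xt.hom k))
    haveI : Smooth (Red.bc k Xt).hom := inferInstanceAs (Smooth (pullback.snd Xt.hom k))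
    haveI : GeometricallyConnected (Red.bc k Xt).hom :=
      inferInstanceAs (GeometricallyConnected (pullback.snd Xt.hom k))
    haveI : IsProper (Red.bc k Xtt).hom := inferInstanceAs (IsProper (pullback.snd Xtt.hom k))
    haveI : Smooth (Red.bc k Xtt).hom := inferInstanceAs (Smooth (pullback.snd Xtt.hom k))
    haveI : GeometricallyConnected (Red.bc k Xtt).hom :=
      inferInstanceAs (GeometricallyConnected (pullback.snd Xtt.hom k))
    let c' := PicF.pullCl (AgPol.bcXTIso k Xt (Red.bc k X)).hom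
      (PicF.pullCl (PicF.XTmap Xt.hom (dnProj k X)) (PicF.pullCl (pullbackSymmetry Xt.hom X.hom).hom ξ))
    have ec : PicF.pullCl (pullbackSymmetry (Red.bc k Xt).hom (Red.bc k X).hom).hom
        (PicF.pullCl (AgPol.bcXTIso k X (Red.bc k Xt)).hom (PicF.pullCl (PicF.XTmap X.hom (dnProj k Xt)) ξ)) = c' := by
      simp only [c', PicClLib.pullCl_comp]
      congr 1
      apply pullback.hom_ext
      · simp [PicF.XTmap, AgPol.bcXTIso]
      · simp [PicF.XTmap, AgPol.bcXTIso]
    have hi := isIso_biduality_field (k := S.residueField s) (isDualAV_bc (k := k) hXt) (isDualAV_bc (k := k) hX)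
      (isPoincareCl_bc k hX hξ) (by rw [ec]; exact pz_hom (pz_xtMap _ hξ'))
    rw [ec, bcDual_pull k hXt X hξ'] at hi
    have sq : IsPullback (pullback.fst X.hom k) ((Over.pullback k).map f).left f.left (pullback.fst Xtt.hom k) := by
      refine IsPullback.of_bot (v₂₁ := pullback.snd Xtt.hom k) (v₂₂ := Xtt.hom) (h₃₁ := k) ?_ ?_
        (IsPullback.of_hasPullback Xtt.hom k)
      · simpa [Over.pullback] using IsPullback.of_hasPullback X.hom k
      · simp [Over.pullback]
    haveI := hi
    exact MorLib.Desc.of_two (MorphismProperty.isomorphisms Scheme) sq (IsPullback.of_hasPullback _ _)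
      ((Over.forget _).map_isIso ((Over.pullback k).map f))
  haveI : IsIso ((Over.forget _).map f) := hi
  exact CategoryTheory.isIso_of_reflects_iso f (Over.forget _)

end fibres

end Groth.Agent.FinDesc

end
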