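import Groth.Agent.FinDesc.Field
import Groth.Agent.FinDesc.BaseChange
import Groth.Agent.AVEuler.Conc
import Groth.Agent.S19572
import Groth.Agent.S7795
import Groth.Agent.Nakai.Pullback
import Groth.Agent.FpqcDescLib.Group
import Groth.Agent.CohBasic.EulerBC
import Groth.Agent.AmpleDev.Basic

/-!
# Classifying maps, transposes and degrees

Degrees of classifying maps are read off from the Euler characteristic of the classified families.
-/

noncomputable section

set_option autoImplicit false
set_option backward.isDefEq.respectTransparency false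
set_option backward.isDefEq.respectTransparency.types false
set_option linter.style.haveILetI false
set_option linter.unusedSectionVars false
set_option maxHeartbeats 1000000
set_option synthInstance.maxHeartbeats 400000

universe u

open CategoryTheory CategoryTheory.Limits MonoidalCategory CartesianMonoidalCategory MonObj AlgebraicGeometry TopologicalSpace

attribute [-instance] CategoryTheory.catToReflQuiver

namespace Groth.Agent.FinDesc

open Groth.Agent.H23 Groth.Agent.H23.TrivBasic Groth.Agent.H23.CubeAb Groth.Agent.AbDualBase Groth.Agent.AVEuler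
open scoped Groth.Agent.H23.PicMul CategoryTheory.Obj

section base

variable {S : Scheme.{u}} {X Xt Y Yt : Over S} [GrpObj X] [GrpObj Xt] [GrpObj Y] [GrpObj Yt]
  {φX : ∀ T : Over S, PicF.Cl (PicF.XT X.hom T) → (T ⟶ Xt)} (hX : AbDual.IsDualAV Scheme.fppfPrecoverage X Xt φX)
  {φY : ∀ T : Over S, PicF.Cl (PicF.XT Y.hom T) → (T ⟶ Yt)} (hY : AbDual.IsDualAV Scheme.fppfPrecoverage Y Yt φY)

include hY in
/-- a family pulled back along a homomorphism on both factors -/
theorem phi_tensor_map {f : X ⟶ Y} {ft : Yt ⟶ Xt} (hft : AbDual.IsTranspose f φX φY ft)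
    {c : PicF.Cl (PicF.XT Y.hom Y)} (hc : AbDual.IsPicZeroCl Y.hom Y c) :
    φX X (PicF.pullCl (f ⊗ₘ f).left c) = f ≫ φY Y c ≫ ft := by
  have h := hft X _ (pz_xtMap f hc)
  rw [hY.relPic.natural _ _ f _ hc, PicClLib.pullCl_comp, PicZeroPrim.bcMap_eq, PicZeroPrim.xtMap_eq,
    ← Over.comp_left, ← MonoidalCategory.tensorHom_def, Category.assoc] at h
  exact h

include hX hY in
/-- transposes fix the units -/
theorem transpose_one {f : X ⟶ Y} {ft : Yt ⟶ Xt} (hft : AbDual.IsTranspose f φX φY ft) :
    η[Yt] ≫ ft = η[Xt] := by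
  have h := hft (𝟙_ (Over S)) 1 (pz_one _)
  rw [pullCl_one', phi_one hX, phi_one hY, Hom.one_def, Hom.one_def,
    toUnit_unique (toUnit (𝟙_ (Over S))) (𝟙 _), Category.id_comp, Category.id_comp] at h
  exact h.symm

variable [IsCommMonObj X] [IsProper X.hom] [Smooth X.hom] [GeometricallyConnected X.hom] [IsProper Xt.hom]

include hX hY in
/-- the Poincaré classes correspond under a transpose -/
theorem transpose_poincare {f : X ⟶ Y} [IsMonHom f] {ft : Yt ⟶ Xt} (hft : AbDual.IsTranspose f φX φY ft)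
    {ξ : PicF.Cl (PicF.XT X.hom Xt)} (hξ : AbDual.IsPoincareCl X Xt φX ξ)
    {ξ' : PicF.Cl (PicF.XT Y.hom Yt)} (hξ' : AbDual.IsPoincareCl Y Yt φY ξ') :
    PicF.pullCl (AbDual.bcMap f Yt) ξ' = PicF.pullCl (PicF.XTmap X.hom ft) ξ := by
  refine PicZeroPrim.eq_of_phi hX (pz_bc f hξ'.1) (pz_xtMap ft hξ.1) ?_ ?_
  · rw [hft Yt ξ' hξ'.1, hξ'.2.1, hX.relPic.natural _ _ ft _ hξ.1, hξ.2.1, Category.id_comp, Category.comp_id]
  · have e1 : PicF.secT X.hom η[X].left (Over.w η[X]) Yt ≫ AbDual.bcMap f Yt =
        PicF.secT Y.hom η[Y].left (Over.w η[Y]) Yt := by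
      rw [PicZeroPrim.secT_eq, PicZeroPrim.secT_eq, PicZeroPrim.bcMap_eq, ← Over.comp_left]
      congr 1
      ext <;> simp
    rw [PicClLib.pullCl_comp, PicClLib.pullCl_comp, e1, secT_xtMap, ← PicClLib.pullCl_comp, hξ.2.2]
    show PicF.pullCl _ ξ' = PicF.pullCl _ 1
    rw [pullCl_one', hξ'.2.2]
    rfl

include hX in
/-- a rigidified family is pulled back from a Poincaré class -/
theorem pull_poincare {ξ : PicF.Cl (PicF.XT X.hom Xt)} (hξ : AbDual.IsPoincareCl X Xt φX ξ) {T : Over S}
    {c : PicF.Cl (PicF.XT X.hom T)} (hc : AbDual.IsPicZeroCl X.hom T c)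
    (hs : PicF.pullCl (PicF.secT X.hom η[X].left (Over.w η[X]) T) c = 1) :
    PicF.pullCl (PicF.XTmap X.hom (φX T c)) ξ = c := by
  refine PicZeroPrim.eq_of_phi hX (pz_xtMap _ hξ.1) hc ?_ ?_
  · rw [hX.relPic.natural _ _ _ _ hξ.1, hξ.2.1, Category.comp_id]
  · rw [hs, PicClLib.pullCl_comp, secT_xtMap, ← PicClLib.pullCl_comp, hξ.2.2]
    exact pullCl_one' _

end base

section field

variable {k : Type u} [Field k]

/-- Euler characteristic of the Poincaré bundle -/
theorem chi_poincare {A At : Over (Spec (CommRingCat.of k))} [GrpObj A] [IsProper A.hom] [Smooth A.hom]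
    [GeometricallyConnected A.hom] [GrpObj At] [IsProper At.hom] [Smooth At.hom] [GeometricallyConnected At.hom]
    {φ : ∀ T : Over (Spec (CommRingCat.of k)), PicF.Cl (PicF.XT A.hom T) → (T ⟶ At)}
    (hφ : AbDual.IsDualAV Scheme.fppfPrecoverage A At φ) {P : (PicF.XT A.hom At).Modules} (hP : PicF.IsInvertible P)
    (hξ : AbDual.IsPoincareCl A At φ (PicF.cl P)) {g : ℕ} (hg : topologicalKrullDim A.left = g)
    [IsProper (A ⊗ At).hom] : chi (A ⊗ At) (PicF.cl P) = (-1) ^ g := by
  haveI : HasInjectiveResolutions (pullback A.hom At.hom).Modules := ExtShX.hasInjRes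
  obtain ⟨hvan, hone, -, -⟩ := AVPoinc.main hφ hP hξ hg (AVPoinc.dim_eq hφ hP hξ hg)
  letI : (A ⊗ At).left.Over (Spec (CommRingCat.of k)) := ⟨(A ⊗ At).hom⟩
  refine (finsum_eq_single _ g fun i hi => ?_).trans ?_
  · haveI : Subsingleton (Coh.HH (pullback A.hom At.hom) P i) := hvan i hi
    simp
    exact @Module.finrank_zero_of_subsingleton _ _ _ (_) (_) _ _
  · refine (congrArg (fun n : ℕ => (-1 : ℤ) ^ g * (n : ℤ)) hone).trans ?_
    rw [Nat.cast_one, _root_.mul_one]

/-- Euler characteristics of pullbacks along finite flat maps -/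
theorem chi_pull {X Y : Over (Spec (CommRingCat.of k))} [GrpObj X] [IsProper X.hom] [GeometricallyIntegral X.hom]
    [GrpObj Y] [IsProper Y.hom] (f : X ⟶ Y) {d : ℕ} (hf : FinCov.IsCover f.left d) {c : PicF.Cl Y.left}
    (hc : PicF.IsInvertibleCl c) : chi X (F c f) = d * chi Y c := by
  obtain ⟨L, rfl, hL⟩ := hc
  haveI : IsLocallyNoetherian Y.left := LocallyOfFiniteType.isLocallyNoetherian Y.hom
  obtain ⟨⟨h1, h2, -⟩, h3⟩ := hf
  exact euler_pullback_isogeny f d h3 (AmpleVan.isCoh_invertible hL)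

/-- finiteness descends from an algebraic closure -/
theorem isFinite_of_bar {X Y : Over (Spec (CommRingCat.of k))} (f : X ⟶ Y)
    (h : IsFinite ((Over.pullback (barMap (k := k))).map f).left) : IsFinite f.left := by
  let σ := barMap (k := k)
  haveI : Flat σ := by
    rw [HasRingHomProperty.Spec_iff (P := @Flat)]
    show (algebraMap k (AlgebraicClosure k)).Flat
    rw [RingHom.flat_algebraMap_iff]
    infer_instance
  haveI : Surjective σ := ⟨fun x => ⟨IsLocalRing.closedPoint _, (inferInstance : Subsingleton (PrimeSpectrum k)).elim _ _⟩⟩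
  have sq : IsPullback (pullback.fst X.hom σ) ((Over.pullback σ).map f).left f.left (pullback.fst Y.hom σ) := by
    refine IsPullback.of_bot (v₂₁ := pullback.snd Y.hom σ) (v₂₂ := Y.hom) (h₃₁ := σ) ?_ ?_
      (IsPullback.of_hasPullback Y.hom σ)
    · simpa [Over.pullback] using IsPullback.of_hasPullback X.hom σ
    · simp [Over.pullback]
  haveI : MorphismProperty.DescendsAlong @IsFinite (@Surjective ⊓ @Flat ⊓ @QuasiCompact : MorphismProperty Scheme.{u}) :=
    EtFound.fpqc_isFinite
  have h1 : Surjective (pullback.fst Y.hom σ) := inferInstance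
  have h2 : Flat (pullback.fst Y.hom σ) := inferInstance
  have h3 : QuasiCompact (pullback.fst Y.hom σ) := inferInstance
  exact MorphismProperty.of_isPullback_of_descendsAlong (P := @IsFinite)
    (Q := (@Surjective ⊓ @Flat ⊓ @QuasiCompact : MorphismProperty Scheme.{u})) sq.flip ⟨⟨h1, h2⟩, h3⟩ h

/-- a homomorphism along which a class has non-zero Euler characteristic is finite -/
theorem isFinite_of_chi_ne_zero {X Y : Over (Spec (CommRingCat.of k))} [GrpObj X] [IsProper X.hom]
    [GeometricallyIntegral X.hom] [GrpObj Y] [IsProper Y.hom] (g : X ⟶ Y) [IsMonHom g] {c : PicF.Cl Y.left}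
    (hc : PicF.IsInvertibleCl c) (h : chi X (F c g) ≠ 0) : IsFinite g.left := by
  obtain ⟨L, rfl, hL⟩ := hc
  refine isFinite_of_bar g ?_
  let G := Over.pullback (barMap (k := k))
  letI : GrpObj (G.obj X) := Functor.grpObjObj
  letI : GrpObj (G.obj Y) := Functor.grpObjObj
  haveI : IsProper (G.obj X).hom := inferInstanceAs (IsProper (pullback.snd X.hom barMap))
  haveI : IsProper (G.obj Y).hom := inferInstanceAs (IsProper (pullback.snd Y.hom barMap))
  haveI : GeometricallyIntegral (G.obj X).hom := inferInstanceAs (GeometricallyIntegral (pullback.snd X.hom barMap))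
  haveI : IsMonHom (G.map g) := inferInstance
  let M := (Scheme.Modules.pullback g.left).obj L
  have hMi : PicF.IsInvertible M := PicClLib.isInvertible_pullback _ hL
  letI : X.left.Over (Spec (CommRingCat.of k)) := ⟨X.hom⟩
  haveI : IsProper (X.left ↘ Spec (CommRingCat.of k)) := inferInstanceAs (IsProper X.hom)
  letI : (G.obj X).left.Over (Spec (CommRingCat.of (AlgebraicClosure k))) := ⟨(G.obj X).hom⟩
  let MK : (G.obj X).left.Modules := (Scheme.Modules.pullback (pullback.fst X.hom barMap)).obj M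
  let cK := PicF.pullCl (pullback.fst Y.hom barMap) (PicF.cl L)
  have hcl : PicF.cl MK = F cK (G.map g) := by
    show PicF.pullCl (pullback.fst X.hom barMap) (PicF.pullCl g.left (PicF.cl L)) =
      PicF.pullCl (G.map g).left (PicF.pullCl (pullback.fst Y.hom barMap) (PicF.cl L))
    rw [PicClLib.pullCl_comp, PicClLib.pullCl_comp]
    congr 1
    simp [G, Over.pullback]
  have hne : @Curv2.euler (AlgebraicClosure k) _ (G.obj X).left ⟨(G.obj X).hom⟩ MK ≠ 0 := fun h0 => h <| by
    show Curv2.euler k X.left M = 0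
    rw [← CohBasic.euler_bc k X.left (AlgebraicClosure k) (ProjUPX.isQCoh_of_isInvertible hMi)]
    exact h0
  have hfix := finite_Fix_of_euler_ne_zero (PicClLib.isInvertible_pullback _ hMi) hne
  refine AVPoinc.isFinite_of_finite_points _ fun x => ?_
  refine ((hfix.image fun a => x * a)).subset fun y hy => ⟨x⁻¹ * y, ?_, _root_.mul_inv_cancel_left x y⟩
  have hp : (x⁻¹ * y) ≫ G.map g = 1 := by
    rw [MonObj.mul_comp, GrpObj.inv_comp, show y ≫ G.map g = x ≫ G.map g from hy]
    exact inv_mul_cancel _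
  show F (PicF.cl MK) (tr (x⁻¹ * y)) = PicF.cl MK
  rw [hcl]
  refine (pull_F _ _ _).trans ?_
  congr 1
  show (𝟙 _ * (toUnit _ ≫ (x⁻¹ * y))) ≫ G.map g = _
  rw [MonObj.mul_comp, Category.id_comp, Category.assoc, hp, MonObj.comp_one, _root_.mul_one]

variable {A At : Over (Spec (CommRingCat.of k))} [GrpObj A] [IsProper A.hom] [Smooth A.hom]
  [GeometricallyConnected A.hom] [GrpObj At]

/-- finiteness is seen on the product -/
theorem isFinite_of_whiskerLeft {T : Over (Spec (CommRingCat.of k))} (f : T ⟶ At)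
    (h : IsFinite (A ◁ f).left) : IsFinite f.left := by
  have sq := isPullback_proj A.hom f
  rw [PicZeroPrim.xtMap_eq] at sq
  haveI : GeometricallyIntegral A.hom := AVDual.geometricallyIntegral_of_smooth A
  haveI : Surjective A.hom :=
    ⟨fun x => ⟨η[A].left (IsLocalRing.closedPoint k), (inferInstance : Subsingleton (PrimeSpectrum k)).elim _ _⟩⟩
  haveI : MorphismProperty.DescendsAlong @IsFinite (@Surjective ⊓ @Flat ⊓ @QuasiCompact : MorphismProperty Scheme.{u}) :=
    EtFound.fpqc_isFinite
  have h1 : Surjective (pullback.snd A.hom At.hom) := inferInstance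
  have h2 : Flat (pullback.snd A.hom At.hom) := inferInstance
  have h3 : QuasiCompact (pullback.snd A.hom At.hom) := inferInstance
  exact MorphismProperty.of_isPullback_of_descendsAlong (P := @IsFinite)
    (Q := (@Surjective ⊓ @Flat ⊓ @QuasiCompact : MorphismProperty Scheme.{u})) (f := PicF.XTproj A.hom At) (g := f.left)
    sq ⟨⟨h1, h2⟩, h3⟩ h

variable [IsProper At.hom] [Smooth At.hom] [GeometricallyConnected At.hom]

/-- the dimension of the dual -/
theorem dim_dual {φ : ∀ T : Over (Spec (CommRingCat.of k)), PicF.Cl (PicF.XT A.hom T) → (T ⟶ At)}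
    (hφ : AbDual.IsDualAV Scheme.fppfPrecoverage A At φ) {g : ℕ} (hg : topologicalKrullDim A.left = g) :
    topologicalKrullDim At.left = g := by
  obtain ⟨P, hP, hξ⟩ := exists_poincare_field hφ
  haveI : HasInjectiveResolutions (pullback A.hom At.hom).Modules := ExtShX.hasInjRes
  exact AVPoinc.dim_eq hφ hP hξ hg

variable {B Bt : Over (Spec (CommRingCat.of k))} [GrpObj B] [IsProper B.hom] [Smooth B.hom]
  [GeometricallyConnected B.hom] [GrpObj Bt] [IsProper Bt.hom] [Smooth Bt.hom] [GeometricallyConnected Bt.hom]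
  {φA : ∀ T : Over (Spec (CommRingCat.of k)), PicF.Cl (PicF.XT A.hom T) → (T ⟶ At)}
  (hφA : AbDual.IsDualAV Scheme.fppfPrecoverage A At φA)
  {φB : ∀ T : Over (Spec (CommRingCat.of k)), PicF.Cl (PicF.XT B.hom T) → (T ⟶ Bt)}
  (hφB : AbDual.IsDualAV Scheme.fppfPrecoverage B Bt φB)
include hφA hφB

/-- transposes are homomorphisms -/
theorem isMonHom_transpose {f : A ⟶ B} {ft : Bt ⟶ At} (hft : AbDual.IsTranspose f φA φB ft) : IsMonHom ft := by
  haveI : GeometricallyIntegral Bt.hom := AVDual.geometricallyIntegral_of_smooth Bt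
  exact AlbFormal.isMonHom_of_one ft (transpose_one hφA hφB hft)

/-- the transpose of an isogeny is an isogeny of the same degree -/
theorem transpose_isogeny (f : A ⟶ B) [IsMonHom f] [Surjective f.left] {d : ℕ}
    (hf : FinCov.IsCover f.left d) {ft : Bt ⟶ At} (hft : AbDual.IsTranspose f φA φB ft) :
    FinCov.IsCover ft.left d ∧ Surjective ft.left ∧ IsMonHom ft := by
  haveI : GeometricallyIntegral A.hom := AVDual.geometricallyIntegral_of_smooth A
  haveI : GeometricallyIntegral B.hom := AVDual.geometricallyIntegral_of_smooth B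
  haveI : GeometricallyIntegral At.hom := AVDual.geometricallyIntegral_of_smooth At
  haveI : GeometricallyIntegral Bt.hom := AVDual.geometricallyIntegral_of_smooth Bt
  haveI : IsCommMonObj A := isCommMonObj_of_isProper_of_geometricallyIntegral A
  haveI : IsCommMonObj B := isCommMonObj_of_isProper_of_geometricallyIntegral B
  haveI : IsFinite f.left := hf.1.1
  haveI := isMonHom_transpose hφA hφB hft
  -- surjectivity
  obtain ⟨W, cW', cΛ, -, hW, hW', hWW', hΛ, hΛ0, -, -, -⟩ := exists_cover hφB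
  haveI : CompactSpace A.left := QuasiCompact.compactSpace_of_compactSpace A.hom
  letI : B.left.Over (Spec (CommRingCat.of k)) := ⟨B.hom⟩
  haveI : IsProper (B.left ↘ Spec (CommRingCat.of k)) := inferInstanceAs (IsProper B.hom)
  have hWf := AmpleDev.isAmple_pullback_finite k f.left hW
  have hW'f : PicF.IsInvertibleCl (F cW' f) := PicClLib.isInvertibleCl_pullCl _ hW'
  have hone : PicF.cl ((Scheme.Modules.pullback f.left).obj W) * F cW' f = 1 := by
    show PicMul.pullHom f.left (PicF.cl W) * PicMul.pullHom f.left cW' = 1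
    rw [← map_mul, hWW', map_one]
  have hcl : PicF.pullCl (f ⊗ₘ f).left cΛ = F (F (PicF.cl W) f) μ[A] * F (F cW' f) (fst A A) * F (F cW' f) (snd A A) := by
    rw [hΛ]
    show PicMul.pullHom (f ⊗ₘ f).left (F (PicF.cl W) μ[B] * F cW' (fst B B) * F cW' (snd B B)) = _
    rw [map_mul, map_mul, pull_F, pull_F, pull_F, ← IsMonHom.mul_hom f, tensorHom_fst, tensorHom_snd]
    exact (congrArg₂ (· * ·) (congrArg₂ (· * ·) (pull_F μ[A] _ f) (pull_F (fst A A) _ f)) (pull_F (snd A A) _ f)).symm
  have hΛ0f : AbDual.IsPicZeroCl A.hom A (PicF.pullCl (f ⊗ₘ f).left cΛ) := by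
    have := pz_bc f (pz_xtMap f hΛ0)
    rwa [PicClLib.pullCl_comp, PicZeroPrim.bcMap_eq, PicZeroPrim.xtMap_eq, ← Over.comp_left, ← MonoidalCategory.tensorHom_def] at this
  haveI hs : Surjective (φA A (PicF.pullCl (f ⊗ₘ f).left cΛ)).left :=
    surjective_phi hφA ⟨_, rfl, hWf.1⟩ hW'f hone hcl hΛ0f fun K _ _ τ W₀ h₀ => by
      refine AmpleX.isAmple_of_iso (PicMul.cl_eq_iff.1 h₀).some.symm ?_
      exact (AmpleX.isRelAmple_iff_isAmple (pullback.snd A.hom τ) _).1
        (AmpleX.isRelAmple_baseChange A.hom τ ((AmpleX.isRelAmple_iff_isAmple A.hom _).2 hWf))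
  rw [phi_tensor_map hφB hft hΛ0, ← Category.assoc, Over.comp_left] at hs
  haveI : Surjective ft.left := Surjective.of_comp (f ≫ φB B cΛ).left ft.left
  -- dimensions
  obtain ⟨g, hg⟩ := AVDegPoly.exists_dim (A := A)
  have hgB : topologicalKrullDim B.left = g := by
    rw [← hg]
    exact le_antisymm (Nakai.dim_le_of_surjective f.left f.left.isClosedMap f.left.surjective)
      (AVPoinc.dim_le_of_isFinite f.left)
  obtain ⟨hfin, hflat⟩ := S19572.result k Bt At ft ((dim_dual hφB hgB).trans (dim_dual hφA hg).symm)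
  haveI := hfin
  haveI := hflat
  haveI : IsLocallyNoetherian At.left := LocallyOfFiniteType.isLocallyNoetherian At.hom
  haveI : IsIntegral At.left := GeometricallyIntegral.isIntegral_of_subsingleton At.hom
  haveI : LocallyOfFinitePresentation ft.left := inferInstance
  have hcov : FinCov.IsCover ft.left (ft.left.finrank (genericPoint At.left)) :=
    ⟨⟨inferInstance, inferInstance, inferInstance⟩, fun y =>
      (Scheme.Hom.isLocallyConstant_finrank ft.left).apply_eq_of_preconnectedSpace y _⟩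
  -- Euler characteristics
  obtain ⟨PA, hPA, hξA⟩ := exists_poincare_field hφA
  obtain ⟨PB, hPB, hξB⟩ := exists_poincare_field hφB
  haveI : IsProper (A ⊗ At).hom := inferInstanceAs (IsProper (pullback.fst A.hom At.hom ≫ A.hom))
  haveI : IsProper (B ⊗ Bt).hom := inferInstanceAs (IsProper (pullback.fst B.hom Bt.hom ≫ B.hom))
  haveI : IsProper (A ⊗ Bt).hom := inferInstanceAs (IsProper (pullback.fst A.hom Bt.hom ≫ A.hom))
  haveI : GeometricallyIntegral (A ⊗ Bt).hom := MaxAbelian.geometricallyIntegral_tensor A Bt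
  haveI : Flat f.left := hf.1.2.1
  have sq : IsPullback (f ▷ Bt).left (fst A Bt).left (fst B Bt).left f.left :=
    (FpqcDescLib.isPullback_whiskerRight f Bt).map (Over.forget _)
  have hfB : FinCov.IsCover (f ▷ Bt).left d := by
    haveI : IsFinite (f ▷ Bt).left := MorphismProperty.of_isPullback sq.flip hf.1.1
    haveI : Flat (f ▷ Bt).left := MorphismProperty.of_isPullback sq.flip hf.1.2.1
    haveI : LocallyOfFinitePresentation (f ▷ Bt).left := MorphismProperty.of_isPullback sq.flip hf.1.2.2
    haveI : Flat f.left := hf.1.2.1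
    exact ⟨⟨inferInstance, inferInstance, inferInstance⟩, fun y =>
      (Scheme.Hom.finrank_of_isPullback _ _ _ _ sq.flip y).trans (hf.2 _)⟩
  have e1 := chi_pull (A ◁ ft) (isCover_whiskerLeft A ft hcov) (c := PicF.cl PA) ⟨PA, rfl, hPA⟩
  have e2 := chi_pull (f ▷ Bt) hfB (c := PicF.cl PB) ⟨PB, rfl, hPB⟩
  have e3 : F (PicF.cl PB) (f ▷ Bt) = F (PicF.cl PA) (A ◁ ft) := by
    have := transpose_poincare hφA hφB hft hξA hξB
    rwa [PicZeroPrim.bcMap_eq, PicZeroPrim.xtMap_eq] at this
  rw [e3, e1, chi_poincare hφA hPA hξA hg, chi_poincare hφB hPB hξB hgB] at e2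
  have hd : ft.left.finrank (genericPoint At.left) = d := by
    exact_mod_cast mul_right_cancel₀ (pow_ne_zero g (by norm_num : (-1 : ℤ) ≠ 0)) e2
  rw [hd] at hcov
  exact ⟨hcov, inferInstance, inferInstance⟩

end field

end Groth.Agent.FinDesc

end
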