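import Groth.Agent.H23.CoverPush
import Groth.Agent.AModX.Res
import Groth.Agent.FlatBC5.Basic
import Mathlib.RingTheory.TensorProduct.Free
import Mathlib.RingTheory.IsTensorProduct

/-!
# Bases of finite locally free morphisms and their base changes

Functions on preimages of opens of the base, with the maps induced by morphisms over the base.
-/

noncomputable section

set_option autoImplicit false
set_option backward.isDefEq.respectTransparency false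
set_option backward.isDefEq.respectTransparency.types false
set_option linter.style.haveILetI false

universe u

open CategoryTheory CategoryTheory.Limits AlgebraicGeometry TopologicalSpace Opposite TensorProduct

namespace Groth.Agent.FinDesc

open Groth.Agent.AModX

variable {W X Y Z : Scheme.{u}}

theorem pre_le {m : X ⟶ Y} {g : Y ⟶ W} {g' : X ⟶ W} (h : m ≫ g = g') (V : W.Opens) :
    g' ⁻¹ᵁ V ≤ m ⁻¹ᵁ (g ⁻¹ᵁ V) := by
  subst h
  exact le_rfl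

/-- functions over an open of the base, pulled back along a morphism over the base -/
def tk (m : X ⟶ Y) {g : Y ⟶ W} {g' : X ⟶ W} (h : m ≫ g = g') (V : W.Opens) :
    Γ(Y, g ⁻¹ᵁ V) →+* Γ(X, g' ⁻¹ᵁ V) :=
  (m.appLE (g ⁻¹ᵁ V) (g' ⁻¹ᵁ V) (pre_le h V)).hom

theorem tk_congr {m m' : X ⟶ Y} {g : Y ⟶ W} {g' : X ⟶ W} (h : m ≫ g = g') (h' : m' ≫ g = g') (e : m = m')
    {V : W.Opens} (a : Γ(Y, g ⁻¹ᵁ V)) : tk m h V a = tk m' h' V a := by
  subst e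
  rfl

theorem tk_tk {m : X ⟶ Y} {m' : Z ⟶ X} {g : Y ⟶ W} {g' : X ⟶ W} {g'' : Z ⟶ W} (h : m ≫ g = g')
    (h' : m' ≫ g' = g'') {V : W.Opens} (a : Γ(Y, g ⁻¹ᵁ V)) :
    tk m' h' V (tk m h V a) = tk (m' ≫ m) (by rw [Category.assoc, h, h']) V a :=
  ConcreteCategory.congr_hom (Scheme.Hom.appLE_comp_appLE m' m (g ⁻¹ᵁ V) (g' ⁻¹ᵁ V) (g'' ⁻¹ᵁ V) _ _) a

theorem tk_res {m : X ⟶ Y} {g : Y ⟶ W} {g' : X ⟶ W} (h : m ≫ g = g') {V V' : W.Opens} (hV : V' ≤ V)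
    (a : Γ(Y, g ⁻¹ᵁ V)) :
    resR (g'.preimage_mono hV) (tk m h V a) = tk m h V' (resR (g.preimage_mono hV) a) := by
  refine (ConcreteCategory.congr_hom (Scheme.Hom.appLE_map m (pre_le h V)
    (homOfLE (g'.preimage_mono hV)).op) a).trans ?_
  exact (ConcreteCategory.congr_hom (Scheme.Hom.map_appLE m (pre_le h V')
    (homOfLE (g.preimage_mono hV)).op) a).symm

theorem tk_mem_basicOpen {m : X ⟶ Y} {g : Y ⟶ W} {g' : X ⟶ W} (h : m ≫ g = g') {V : W.Opens}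
    (a : Γ(Y, g ⁻¹ᵁ V)) (x : X) (hx : x ∈ g' ⁻¹ᵁ V) :
    x ∈ X.basicOpen (tk m h V a) ↔ m x ∈ Y.basicOpen a := by
  show x ∈ X.basicOpen (m.appLE _ _ (pre_le h V) a) ↔ _
  rw [Scheme.Hom.appLE, CommRingCat.comp_apply, Scheme.basicOpen_res, ← Scheme.preimage_basicOpen]
  exact ⟨fun h => h.2, fun h => ⟨hx, h⟩⟩

/-- a finite family of functions upstairs is a basis over the functions downstairs -/
def IsBase (π : Y ⟶ W) {U : W.Opens} {d : ℕ} (b : Fin d → Γ(Y, π ⁻¹ᵁ U)) : Prop :=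
  Function.Bijective fun c : Fin d → Γ(W, U) => ∑ i, π.app U (c i) * b i

/-- locally free direct images have bases over arbitrarily small affine opens -/
theorem exists_isBase (π : Y ⟶ W) {d : ℕ}
    (hπ : FlatMod.IsFinLocFreeOfRank d ((Scheme.Modules.pushforward π).obj (Coh.structureModule Y)))
    {V : W.Opens} {w : W} (hw : w ∈ V) :
    ∃ U : W.Opens, IsAffineOpen U ∧ w ∈ U ∧ U ≤ V ∧ ∃ b : Fin d → Γ(Y, π ⁻¹ᵁ U), IsBase π b := by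
  obtain ⟨O, hwO, ⟨e⟩⟩ := hπ w
  obtain ⟨_, ⟨U, hU, rfl⟩, hwU, hUO⟩ := W.isBasis_affineOpens.exists_subset_of_mem_open
    (⟨hw, hwO⟩ : w ∈ ((V ⊓ O : W.Opens) : Set W)) (V ⊓ O).2
  obtain ⟨l⟩ := QCoh.free_sections hU (show U ≤ O from fun x hx => (hUO hx).2) e
  refine ⟨U, hU, hwU, fun x hx => (hUO hx).1, ?_⟩
  letI := H23.CoverPush.alg π U
  let l' : Γ(Y, π ⁻¹ᵁ U) ≃ₗ[Γ(W, U)] (ULift.{u} (Fin d) →₀ Γ(W, U)) :=
    { l with map_smul' := fun r x => l.map_smul r x }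
  let B : Module.Basis (Fin d) Γ(W, U) Γ(Y, π ⁻¹ᵁ U) := (Module.Basis.ofRepr l').reindex Equiv.ulift
  refine ⟨B, ?_⟩
  have h : (fun c : Fin d → Γ(W, U) => ∑ i, π.app U (c i) * B i) = B.equivFun.symm := by
    funext c
    rw [Module.Basis.equivFun_symm_apply]
    exact Finset.sum_congr rfl fun i _ => (Algebra.smul_def _ _).symm
  unfold IsBase
  rw [h]
  exact B.equivFun.symm.bijective

/-- bases survive base change to affine preimages -/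
theorem IsBase.baseChange {π : Y ⟶ W} [IsAffineHom π] {U : W.Opens} (hU : IsAffineOpen U) {d : ℕ}
    {b : Fin d → Γ(Y, π ⁻¹ᵁ U)} (hb : IsBase π b) {P : Scheme.{u}} {g : X ⟶ W} (hX : IsAffineOpen (g ⁻¹ᵁ U))
    {p : P ⟶ X} {q : P ⟶ Y} (sq : IsPullback p q g π) :
    Function.Bijective fun c : Fin d → Γ(X, g ⁻¹ᵁ U) =>
      ∑ i, tk (W := W) p (g' := p ≫ g) rfl U (c i) * tk (W := W) q (g' := p ≫ g) sq.w.symm U (b i) := by
  classical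
  have hW : (p ≫ g) ⁻¹ᵁ U = p ⁻¹ᵁ (g ⁻¹ᵁ U) ⊓ q ⁻¹ᵁ (π ⁻¹ᵁ U) := by
    refine le_antisymm (le_inf le_rfl (pre_le (sq.w.symm : q ≫ π = p ≫ g) U)) inf_le_left
  have hY := hU.preimage π
  have hpo := (isIso_pushoutSection_iff sq.flip (le_rfl : g ⁻¹ᵁ U ≤ g ⁻¹ᵁ U) (le_rfl : π ⁻¹ᵁ U ≤ π ⁻¹ᵁ U)
    (UY := (p ≫ g) ⁻¹ᵁ U) (by rw [hW, inf_comm])).mp
      (isIso_pushoutSection_of_isAffineOpen sq.flip le_rfl le_rfl (by rw [hW, inf_comm]) hU hX hY)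
  letI : Algebra Γ(W, U) Γ(Y, π ⁻¹ᵁ U) := (π.appLE U (π ⁻¹ᵁ U) le_rfl).hom.toAlgebra
  letI : Algebra Γ(W, U) Γ(X, g ⁻¹ᵁ U) := (g.appLE U (g ⁻¹ᵁ U) le_rfl).hom.toAlgebra
  letI : Algebra Γ(X, g ⁻¹ᵁ U) Γ(P, (p ≫ g) ⁻¹ᵁ U) := (tk (W := W) p (g' := p ≫ g) rfl U).toAlgebra
  letI : Algebra Γ(Y, π ⁻¹ᵁ U) Γ(P, (p ≫ g) ⁻¹ᵁ U) :=
    (tk (W := W) q (g' := p ≫ g) sq.w.symm U).toAlgebra
  letI : Algebra Γ(W, U) Γ(P, (p ≫ g) ⁻¹ᵁ U) :=
    ((tk (W := W) p (g' := p ≫ g) rfl U).comp (g.appLE U (g ⁻¹ᵁ U) le_rfl).hom).toAlgebra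
  haveI : IsScalarTower Γ(W, U) Γ(X, g ⁻¹ᵁ U) Γ(P, (p ≫ g) ⁻¹ᵁ U) := .of_algebraMap_eq fun _ => rfl
  haveI : IsScalarTower Γ(W, U) Γ(Y, π ⁻¹ᵁ U) Γ(P, (p ≫ g) ⁻¹ᵁ U) := .of_algebraMap_eq fun r =>
    (congr($(hpo.w).hom r)).symm
  haveI : Algebra.IsPushout Γ(W, U) Γ(X, g ⁻¹ᵁ U) Γ(Y, π ⁻¹ᵁ U) Γ(P, (p ≫ g) ⁻¹ᵁ U) := by
    first
      | exact CommRingCat.isPushout_iff_isPushout.mp hpo
      | exact CommRingCat.isPushout_iff_isPushout.mp hpo.flip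
  let Φ : (Fin d → Γ(W, U)) ≃ Γ(Y, π ⁻¹ᵁ U) := Equiv.ofBijective _ hb
  let l : (Fin d → Γ(W, U)) ≃ₗ[Γ(W, U)] Γ(Y, π ⁻¹ᵁ U) :=
    { Φ with
      map_add' := fun c c' => by
        show ∑ i, π.app U ((c + c') i) * b i = ∑ i, π.app U (c i) * b i + ∑ i, π.app U (c' i) * b i
        simp [add_mul, Finset.sum_add_distrib]
      map_smul' := fun r c => by
        show ∑ i, π.app U ((r • c) i) * b i = π.appLE U (π ⁻¹ᵁ U) le_rfl r * ∑ i, π.app U (c i) * b i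
        rw [← Scheme.Hom.app_eq_appLE, Finset.mul_sum]
        exact Finset.sum_congr rfl fun i _ => by rw [Pi.smul_apply, smul_eq_mul, map_mul, mul_assoc] }
  let B := Module.Basis.ofEquivFun l.symm
  have hB : ∀ i, B i = b i := fun i => by
    rw [Module.Basis.coe_ofEquivFun]
    show ∑ j, π.app U (Pi.single (M := fun _ => Γ(W, U)) i 1 j) * b j = b i
    rw [Finset.sum_eq_single i (fun j _ hj => by rw [Pi.single_eq_of_ne hj, map_zero, zero_mul])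
      (fun h => absurd (Finset.mem_univ i) h), Pi.single_eq_same, map_one, one_mul]
  let BP := (Algebra.TensorProduct.basis Γ(X, g ⁻¹ᵁ U) B).map
    (Algebra.IsPushout.equiv Γ(W, U) Γ(X, g ⁻¹ᵁ U) Γ(Y, π ⁻¹ᵁ U) Γ(P, (p ≫ g) ⁻¹ᵁ U)).toLinearEquiv
  have h : (fun c : Fin d → Γ(X, g ⁻¹ᵁ U) =>
      ∑ i, tk (W := W) p (g' := p ≫ g) rfl U (c i) * tk (W := W) q (g' := p ≫ g) sq.w.symm U (b i)) =
      BP.equivFun.symm := by
    funext c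
    rw [Module.Basis.equivFun_symm_apply]
    refine Finset.sum_congr rfl fun i _ => ?_
    rw [Module.Basis.map_apply, Algebra.TensorProduct.basis_apply, hB, AlgEquiv.toLinearEquiv_apply,
      Algebra.smul_def]
    refine congrArg₂ (· * ·) rfl ?_
    exact ((Algebra.IsPushout.out (R := Γ(W, U)) (S := Γ(X, g ⁻¹ᵁ U)) (R' := Γ(Y, π ⁻¹ᵁ U))
      (S' := Γ(P, (p ≫ g) ⁻¹ᵁ U))).equiv_tmul 1 (b i)).trans (one_smul _ _) |>.symm
  rw [h]
  exact BP.equivFun.symm.bijective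

end Groth.Agent.FinDesc

end
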