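import Groth.Agent.FinDesc.Invariant
import Groth.Agent.H23.CocycleMod
import Groth.Agent.InvX.GenLocusPull
import Groth.Agent.InvX.Pullback

/-!
# Descent of invertible modules from units on the double product
-/

noncomputable section

set_option autoImplicit false
set_option backward.isDefEq.respectTransparency false
set_option backward.isDefEq.respectTransparency.types false
set_option linter.style.haveILetI false

universe u

open CategoryTheory CategoryTheory.Limits AlgebraicGeometry TopologicalSpace Opposite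

namespace Groth.Agent.FinDesc

open Groth.Agent.AModX Groth.Agent.InvX

variable {W X Y : Scheme.{u}}

/-- a section over an open of the base, pulled back along a morphism over the base -/
def pk (m : X ⟶ Y) {g : Y ⟶ W} {g' : X ⟶ W} (h : m ≫ g = g') {M : Y.Modules} {V : W.Opens}
    (e : Γ(M, g ⁻¹ᵁ V)) : Γ((Scheme.Modules.pullback m).obj M, g' ⁻¹ᵁ V) :=
  res _ (pre_le h V) (pullElt m e)

theorem pk_smul {m : X ⟶ Y} {g : Y ⟶ W} {g' : X ⟶ W} (h : m ≫ g = g') {M : Y.Modules} {V : W.Opens}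
    (a : Γ(Y, g ⁻¹ᵁ V)) (e : Γ(M, g ⁻¹ᵁ V)) : pk m h (a • e) = tk m h V a • pk m h e := by
  rw [pk, pullElt_smul, res_smul]
  rfl

theorem pk_res {m : X ⟶ Y} {g : Y ⟶ W} {g' : X ⟶ W} (h : m ≫ g = g') {M : Y.Modules} {V V' : W.Opens}
    (hV : V' ≤ V) (e : Γ(M, g ⁻¹ᵁ V)) :
    res _ (g'.preimage_mono hV) (pk m h e) = pk m h (res M (g.preimage_mono hV) e) := by
  rw [pk, pk, ← res_pullElt, res_res, res_res]

theorem isFrame_pk {m : X ⟶ Y} {g : Y ⟶ W} {g' : X ⟶ W} (h : m ≫ g = g') {M : Y.Modules} {V : W.Opens}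
    {e : Γ(M, g ⁻¹ᵁ V)} (he : IsFrame e) : IsFrame (pk m h e) :=
  (isFrame_pullElt m he).res _

/-- the coordinate of a frame in another is a unit -/
theorem isUnit_coord {M : X.Modules} {U : X.Opens} {e e' : Γ(M, U)} (he : IsFrame e) (he' : IsFrame e')
    {a : Γ(X, U)} (h : e = a • e') : IsUnit a := by
  obtain ⟨b, hb⟩ := he.exists_coord le_rfl e'
  rw [res_self] at hb
  refine IsUnit.of_mul_eq_one b (he'.coord_unique le_rfl ?_)
  rw [res_self, one_smul, mul_smul]
  conv_rhs => rw [hb, h]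
  rw [smul_comm]

/-- units over an open of the base, pulled back -/
def utk (m : X ⟶ Y) {g : Y ⟶ W} {g' : X ⟶ W} (h : m ≫ g = g') (V : W.Opens) :
    (Γ(Y, g ⁻¹ᵁ V))ˣ →* (Γ(X, g' ⁻¹ᵁ V))ˣ :=
  Units.map (tk m h V).toMonoidHom

/-- units restricted -/
def ures {U U' : X.Opens} (h : U' ≤ U) : (Γ(X, U))ˣ →* (Γ(X, U'))ˣ := Units.map (resR h).toMonoidHom

theorem ures_ures {U U' U'' : X.Opens} (h : U' ≤ U) (h' : U'' ≤ U') (a : (Γ(X, U))ˣ) :
    ures h' (ures h a) = ures (h'.trans h) a := Units.ext (resR_resR h h' a.1)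

theorem utk_res {m : X ⟶ Y} {g : Y ⟶ W} {g' : X ⟶ W} (h : m ≫ g = g') {V V' : W.Opens} (hV : V' ≤ V)
    (a : (Γ(Y, g ⁻¹ᵁ V))ˣ) :
    ures (g'.preimage_mono hV) (utk m h V a) = utk m h V' (ures (g.preimage_mono hV) a) :=
  Units.ext (tk_res h hV a.1)

theorem utk_utk {Z : Scheme.{u}} {m : X ⟶ Y} {m' : Z ⟶ X} {g : Y ⟶ W} {g' : X ⟶ W} {g'' : Z ⟶ W} (h : m ≫ g = g')
    (h' : m' ≫ g' = g'') {V : W.Opens} (a : (Γ(Y, g ⁻¹ᵁ V))ˣ) :
    utk m' h' V (utk m h V a) = utk (m' ≫ m) (by rw [Category.assoc, h, h']) V a := Units.ext (tk_tk h h' a.1)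

theorem utk_congr {m m' : X ⟶ Y} {g : Y ⟶ W} {g' : X ⟶ W} (h : m ≫ g = g') (h' : m' ≫ g = g') (e : m = m')
    {V : W.Opens} (a : (Γ(Y, g ⁻¹ᵁ V))ˣ) : utk m h V a = utk m' h' V a := Units.ext (tk_congr h h' e a.1)

/-- frames of a module on the preimages of a cover of the base, with their transition functions -/
structure Frames (π : Y ⟶ W) (Λ : Y.Modules) (d : ℕ) where
  /-- the open around a point -/
  V : W → W.Opens
  mem : ∀ w, w ∈ V w
  affine : ∀ w, IsAffineOpen (V w)
  base : ∀ w, ∃ b : Fin d → Γ(Y, π ⁻¹ᵁ V w), IsBase π b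
  /-- the frame -/
  e : ∀ w, Γ(Λ, π ⁻¹ᵁ V w)
  isFrame : ∀ w, IsFrame (e w)
  /-- the transition functions -/
  g : ∀ w w', (Γ(Y, π ⁻¹ᵁ (V w ⊓ V w')))ˣ
  spec : ∀ w w', res Λ (π.preimage_mono inf_le_left) (e w) =
    (g w w' : Γ(Y, π ⁻¹ᵁ (V w ⊓ V w'))) • res Λ (π.preimage_mono inf_le_right) (e w')

variable {π : Y ⟶ W} {Λ : Y.Modules} {d : ℕ}

/-- units on the double product compatible with the transition functions -/
def Frames.Compat (F : Frames π Λ d) (K : Kernel π) (u : ∀ w, (Γ(K.R, K.ρ ⁻¹ᵁ F.V w))ˣ) : Prop :=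
  ∀ w w', utk K.r1 rfl _ (F.g w w') * ures (K.ρ.preimage_mono inf_le_right) (u w') =
    ures (K.ρ.preimage_mono inf_le_left) (u w) * utk K.r2 K.w2 _ (F.g w w')

/-- the cocycle condition on the triple product -/
def Frames.Cocycle (F : Frames π Λ d) (K : Kernel π) (u : ∀ w, (Γ(K.R, K.ρ ⁻¹ᵁ F.V w))ˣ) : Prop :=
  ∀ w, utk K.p13 K.w13 _ (u w) = utk K.p12 rfl _ (u w) * utk K.p23 K.w23 _ (u w)

theorem exists_frames (hπ : FlatMod.IsFinLocFreeOfRank d ((Scheme.Modules.pushforward π).obj (Coh.structureModule Y)))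
    (hloc : ∀ w, ∃ (V : W.Opens) (e : Γ(Λ, π ⁻¹ᵁ V)), w ∈ V ∧ IsFrame e) : Nonempty (Frames π Λ d) := by
  choose V e hw he using hloc
  choose U hU hwU hUV b hb using fun w => exists_isBase π hπ (hw w)
  let e' : ∀ w, Γ(Λ, π ⁻¹ᵁ U w) := fun w => res Λ (π.preimage_mono (hUV w)) (e w)
  have he' : ∀ w, IsFrame (e' w) := fun w => (he w).res _
  have hg : ∀ w w', ∃ g : (Γ(Y, π ⁻¹ᵁ (U w ⊓ U w')))ˣ, res Λ (π.preimage_mono inf_le_left) (e' w) =
      (g : Γ(Y, π ⁻¹ᵁ (U w ⊓ U w'))) • res Λ (π.preimage_mono inf_le_right) (e' w') := fun w w' => by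
    obtain ⟨a, ha⟩ := (he' w').exists_coord (π.preimage_mono (inf_le_right : U w ⊓ U w' ≤ U w'))
      (res Λ (π.preimage_mono inf_le_left) (e' w))
    exact ⟨(isUnit_coord ((he' w).res _) ((he' w').res _) ha).unit, ha⟩
  choose g hg using hg
  exact ⟨⟨U, hwU, hU, fun w => ⟨b w, hb w⟩, e', he', g, hg⟩⟩

/-- an isomorphism of the two pullbacks gives compatible units -/
theorem Frames.exists_compat (F : Frames π Λ d) (K : Kernel π)
    (θ : (Scheme.Modules.pullback K.r1).obj Λ ≅ (Scheme.Modules.pullback K.r2).obj Λ) : ∃ u, F.Compat K u := by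
  have hu : ∀ w, ∃ u : (Γ(K.R, K.ρ ⁻¹ᵁ F.V w))ˣ, θ.hom.app _ (pk K.r1 rfl (F.e w)) =
      (u : Γ(K.R, K.ρ ⁻¹ᵁ F.V w)) • pk K.r2 K.w2 (F.e w) := fun w => by
    have h2 := isFrame_pk (m := K.r2) K.w2 (F.isFrame w)
    have h1 : IsFrame (θ.hom.app _ (pk K.r1 (rfl : K.r1 ≫ π = K.ρ) (F.e w))) :=
      (isFrame_pk rfl (F.isFrame w)).map_iso θ
    obtain ⟨a, ha⟩ := h2.exists_coord le_rfl (θ.hom.app _ (pk K.r1 (rfl : K.r1 ≫ π = K.ρ) (F.e w)))
    rw [res_self] at ha
    exact ⟨(isUnit_coord h1 h2 ha).unit, ha⟩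
  choose u hu using hu
  refine ⟨u, fun w w' => Units.ext ?_⟩
  refine ((isFrame_pk (m := K.r2) K.w2 (F.isFrame w')).res (K.ρ.preimage_mono inf_le_right)).coord_unique le_rfl ?_
  rw [res_self]
  show (tk K.r1 rfl _ (F.g w w').1 * resR _ (u w').1) • _ = (resR _ (u w).1 * tk K.r2 K.w2 _ (F.g w w').1) • _
  rw [mul_smul, mul_smul, ← res_smul, ← hu, pk_res K.w2, ← pk_smul, ← F.spec, ← pk_res K.w2, ← res_smul, ← hu,
    ← app_res, ← app_res, pk_res, pk_res, F.spec, pk_smul]
  all_goals first | exact (Scheme.Modules.Hom.app_smul _ _ _).symm | exact inf_le_left | exact inf_le_right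

variable [IsFinite π] [Surjective π]

/-- compatible units satisfying the cocycle condition give a descended module -/
theorem Frames.exists_descent (F : Frames π Λ d) (K : Kernel π)
    (hπ : FlatMod.IsFinLocFreeOfRank d ((Scheme.Modules.pushforward π).obj (Coh.structureModule Y)))
    (u : ∀ w, (Γ(K.R, K.ρ ⁻¹ᵁ F.V w))ˣ) (hu : F.Compat K u) (hc : F.Cocycle K u) :
    ∃ P : W.Modules, PicF.IsInvertible P ∧ Nonempty ((Scheme.Modules.pullback π).obj P ≅ Λ) := by
  classical
  choose b hb using F.base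
  have hinv := fun w => K.exists_invariant (F.affine w) (hb w) (u w).1 (u w).isUnit
    (congrArg Units.val (hc w)) (F.mem w)
  choose U hUV c hwU hcu hc using hinv
  obtain ⟨e, he, hce⟩ : ∃ e : ∀ w, Γ(Λ, π ⁻¹ᵁ U w), (∀ w, IsFrame (e w)) ∧
      ∀ w, c w • e w = res Λ (π.preimage_mono (hUV w)) (F.e w) :=
    ⟨fun w => ((hcu w).unit⁻¹ : (Γ(Y, π ⁻¹ᵁ U w))ˣ).1 • res Λ (π.preimage_mono (hUV w)) (F.e w),
      fun w => ((F.isFrame w).res _).isUnit_smul ((hcu w).unit⁻¹).isUnit,
      fun w => by rw [← mul_smul, IsUnit.mul_val_inv, one_smul]⟩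
  -- the transition functions are invariant
  have htr : ∀ w w', ∃ G : Γ(W, U w ⊓ U w'),
      res Λ (π.preimage_mono inf_le_left) (e w) = π.app _ G • res Λ (π.preimage_mono inf_le_right) (e w') := by
    intro w w'
    let O : W.Opens := U w ⊓ U w'
    have hO : O ≤ F.V w ⊓ F.V w' := inf_le_inf (hUV w) (hUV w')
    obtain ⟨H, hH⟩ := (he w').exists_coord (π.preimage_mono (inf_le_right : O ≤ U w'))
      (res Λ (π.preimage_mono inf_le_left) (e w))
    let cl := resR (π.preimage_mono (inf_le_left : O ≤ U w)) (c w)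
    let cr := resR (π.preimage_mono (inf_le_right : O ≤ U w')) (c w')
    let g := resR (π.preimage_mono hO) (F.g w w').1
    have hr : res Λ (π.preimage_mono (inf_le_left : O ≤ U w)) (res Λ (π.preimage_mono (hUV w)) (F.e w)) =
        g • res Λ (π.preimage_mono (inf_le_right : O ≤ U w')) (res Λ (π.preimage_mono (hUV w')) (F.e w')) := by
      have h1 := congrArg (res Λ (π.preimage_mono hO)) (F.spec w w')
      rw [res_smul, res_res, res_res] at h1
      rw [res_res, res_res]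
      exact h1
    have hrel : H * cl = g * cr := by
      refine (he w').coord_unique (π.preimage_mono (inf_le_right : O ≤ U w')) ?_
      rw [mul_comm H cl, mul_smul, ← hH, mul_smul, ← res_smul, ← res_smul, hce, hce]
      exact hr
    have hG : K.T1 O H = K.T2 O H := by
      have hcl : K.T1 O cl = resR (K.ρ.preimage_mono (hO.trans inf_le_left)) (u w).1 * K.T2 O cl := by
        have h := congrArg (resR (K.ρ.preimage_mono (inf_le_left : O ≤ U w))) (hc w)
        rw [map_mul, tk_res (hV := inf_le_left), tk_res (hV := inf_le_left), resR_resR] at h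
        exact h
      have hcr : K.T1 O cr = resR (K.ρ.preimage_mono (hO.trans inf_le_right)) (u w').1 * K.T2 O cr := by
        have h := congrArg (resR (K.ρ.preimage_mono (inf_le_right : O ≤ U w'))) (hc w')
        rw [map_mul, tk_res (hV := inf_le_right), tk_res (hV := inf_le_right), resR_resR] at h
        exact h
      have hgu : K.T1 O g * resR (K.ρ.preimage_mono (hO.trans inf_le_right)) (u w').1 =
          resR (K.ρ.preimage_mono (hO.trans inf_le_left)) (u w).1 * K.T2 O g := by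
        have h := congrArg (fun a => resR (K.ρ.preimage_mono hO) a.1) (hu w w')
        change resR _ (K.T1 _ _ * resR _ (u w').1) = resR _ (resR _ (u w).1 * K.T2 _ _) at h
        rw [map_mul, map_mul, tk_res (hV := hO), tk_res (hV := hO), resR_resR, resR_resR] at h
        exact h
      refine ((((hcu w).map (resR (π.preimage_mono (inf_le_left : O ≤ U w)))).map (K.T1 O))).mul_left_injective ?_
      show K.T1 O H * K.T1 O cl = K.T2 O H * K.T1 O cl
      rw [← map_mul, hrel, map_mul, hcr, ← mul_assoc, hgu, mul_assoc, ← map_mul, ← hrel, map_mul, hcl]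
      ring
    obtain ⟨G, hG'⟩ := K.exists_descend_fn hπ H hG
    exact ⟨G, hG'.symm ▸ hH⟩
  choose G hG using htr
  have hnat : ∀ {V V' : W.Opens} (h : V' ≤ V) (a : Γ(W, V)),
      π.app V' (resR h a) = resR (π.preimage_mono h) (π.app V a) := fun h a =>
    ConcreteCategory.congr_hom (π.naturality (homOfLE h).op) a
  have hG' : ∀ w w' (O : W.Opens) (h : O ≤ U w ⊓ U w'),
      res Λ (π.preimage_mono (h.trans inf_le_left)) (e w) =
        π.app O (resR h (G w w')) • res Λ (π.preimage_mono (h.trans inf_le_right)) (e w') := fun w w' O h => by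
    have := congrArg (res Λ (π.preimage_mono h)) (hG w w')
    rw [res_smul, res_res, res_res, ← hnat h] at this
    exact this
  have hGu : ∀ w w', IsUnit (G w w') := fun w w' => by
    refine IsUnit.of_mul_eq_one (resR (le_inf inf_le_right inf_le_left) (G w' w)) (app_injective hπ ?_)
    refine ((he w).res (π.preimage_mono inf_le_left)).coord_unique le_rfl ?_
    rw [map_one, one_smul, res_self, map_mul, mul_smul]
    conv_rhs => rw [hG w w', hG' w' w _ (le_inf inf_le_right inf_le_left)]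
  let t : H23.CocycleMod.Cocycle U :=
    { g := fun w w' => (hGu w w').unit
      trans := fun i j l O hi hj hl => app_injective hπ (by
        refine ((he l).res (π.preimage_mono hl)).coord_unique le_rfl ?_
        rw [res_self, map_mul, mul_comm, mul_smul]
        show π.app O (resR _ (G i l)) • _ = π.app O (resR _ (G i j)) • π.app O (resR _ (G j l)) • _
        rw [← hG' i l O (le_inf hi hl), ← hG' j l O (le_inf hj hl), ← hG' i j O (le_inf hi hj)]) }
  let P := H23.CocycleMod.mod t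
  refine ⟨P, H23.CocycleMod.isInvertible t (top_le_iff.1 fun w _ => Opens.mem_iSup.2 ⟨w, hwU w⟩), ?_⟩
  let M := (Scheme.Modules.pullback π).obj P
  let fr : ∀ w, Γ(M, π ⁻¹ᵁ U w) := fun w => pullElt π (H23.CocycleMod.frame t w)
  have hfr : ∀ w, IsFrame (fr w) := fun w => isFrame_pullElt π (H23.CocycleMod.isFrame_frame t w)
  have hfrt : ∀ w w', res M (π.preimage_mono inf_le_left) (fr w) =
      π.app _ (G w w') • res M (π.preimage_mono inf_le_right) (fr w') := fun w w' => by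
    rw [res_pullElt π inf_le_left, res_pullElt π inf_le_right, ← pullElt_smul]
    exact congrArg _ (H23.CocycleMod.res_frame t w w')
  have hcov : ∀ y : Y, ∃ w, y ∈ π ⁻¹ᵁ U w := fun y => ⟨π y, hwU _⟩
  have hcomp : ∀ {A B : Y.Modules} (a : ∀ w, Γ(A, π ⁻¹ᵁ U w)) (_ : ∀ w, IsFrame (a w)) (b' : ∀ w, Γ(B, π ⁻¹ᵁ U w))
      (_ : ∀ w w', res A (π.preimage_mono inf_le_left) (a w) =
        π.app _ (G w w') • res A (π.preimage_mono inf_le_right) (a w'))
      (_ : ∀ w w', res B (π.preimage_mono inf_le_left) (b' w) =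
        π.app _ (G w w') • res B (π.preimage_mono inf_le_right) (b' w')),
      ∀ (w w' : W) (O : Y.Opens) (hw : O ≤ π ⁻¹ᵁ U w) (hw' : O ≤ π ⁻¹ᵁ U w') (g : Γ(Y, O)),
        res A hw' (a w') = g • res A hw (a w) → res B hw' (b' w') = g • res B hw (b' w) := by
    intro A B a ha b' ha' hb' w w' O hw hw' g hg
    have hO : O ≤ π ⁻¹ᵁ (U w' ⊓ U w) := le_inf hw' hw
    have h1 := congrArg (res A hO) (ha' w' w)
    have h2 := congrArg (res B hO) (hb' w' w)
    rw [res_smul, res_res, res_res] at h1 h2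
    rw [h2, (ha w).coord_unique hw (hg.symm.trans h1)]
  let φ : M ⟶ Λ := ofFrames hcov hfr (hcomp fr hfr e hfrt hG)
  let ψ : Λ ⟶ M := ofFrames hcov he (hcomp e he fr hG hfrt)
  refine ⟨⟨φ, ψ, hom_ext_of_frames _ hcov _ hfr fun w => ?_, hom_ext_of_frames _ hcov _ he fun w => ?_⟩⟩
  · show ψ.app _ (φ.app _ (fr w)) = fr w
    rw [ofFrames_app, ofFrames_app]
  · show φ.app _ (ψ.app _ (e w)) = e w
    rw [ofFrames_app, ofFrames_app]

end Groth.Agent.FinDesc

end
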