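import Groth.Agent.FinDesc.Basis
import Mathlib.AlgebraicGeometry.PullbackCarrier

/-!
# Invariant units and invariant functions along finite locally free morphisms
-/

noncomputable section

set_option autoImplicit false
set_option backward.isDefEq.respectTransparency false
set_option backward.isDefEq.respectTransparency.types false
set_option linter.style.haveILetI false

universe u

open CategoryTheory CategoryTheory.Limits AlgebraicGeometry TopologicalSpace Opposite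

namespace Groth.Agent.FinDesc

open Groth.Agent.AModX

variable {W X Y : Scheme.{u}}

/-- the kernel pair of a morphism with its triple product -/
structure Kernel (π : Y ⟶ W) where
  /-- the double product -/
  R : Scheme.{u}
  /-- the triple product -/
  R3 : Scheme.{u}
  /-- the first projection -/
  r1 : R ⟶ Y
  /-- the second projection -/
  r2 : R ⟶ Y
  /-- forgetting the third factor -/
  p12 : R3 ⟶ R
  /-- forgetting the second factor -/
  p13 : R3 ⟶ R
  /-- forgetting the first factor -/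
  p23 : R3 ⟶ R
  /-- the third factor -/
  q3 : R3 ⟶ Y
  sq : IsPullback r1 r2 π π
  sq3 : IsPullback p12 q3 (r1 ≫ π) π
  e1 : p13 ≫ r1 = p12 ≫ r1
  e2 : p13 ≫ r2 = q3
  e3 : p23 ≫ r1 = p12 ≫ r2
  e4 : p23 ≫ r2 = q3

variable {π : Y ⟶ W} (K : Kernel π)

/-- the double product over the base -/
abbrev Kernel.ρ : K.R ⟶ W := K.r1 ≫ π

/-- the triple product over the base -/
abbrev Kernel.ρ3 : K.R3 ⟶ W := K.p12 ≫ K.ρ

theorem Kernel.w13 : K.p13 ≫ K.ρ = K.ρ3 := by
  rw [Kernel.ρ3, Kernel.ρ, ← Category.assoc, K.e1, Category.assoc]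

theorem Kernel.w23 : K.p23 ≫ K.ρ = K.ρ3 := by
  rw [Kernel.ρ3, Kernel.ρ, ← Category.assoc, K.e3, Category.assoc, ← K.sq.w]

theorem Kernel.w2 : K.r2 ≫ π = K.ρ := K.sq.w.symm

/-- pulling back along the first projection -/
abbrev Kernel.T1 (V : W.Opens) : Γ(Y, π ⁻¹ᵁ V) →+* Γ(K.R, K.ρ ⁻¹ᵁ V) := tk K.r1 rfl V

/-- pulling back along the second projection -/
abbrev Kernel.T2 (V : W.Opens) : Γ(Y, π ⁻¹ᵁ V) →+* Γ(K.R, K.ρ ⁻¹ᵁ V) := tk K.r2 K.w2 V

/-- forgetting the third factor, on functions -/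
abbrev Kernel.S12 (V : W.Opens) : Γ(K.R, K.ρ ⁻¹ᵁ V) →+* Γ(K.R3, K.ρ3 ⁻¹ᵁ V) := tk K.p12 rfl V

/-- forgetting the second factor, on functions -/
abbrev Kernel.S13 (V : W.Opens) : Γ(K.R, K.ρ ⁻¹ᵁ V) →+* Γ(K.R3, K.ρ3 ⁻¹ᵁ V) := tk K.p13 K.w13 V

/-- forgetting the first factor, on functions -/
abbrev Kernel.S23 (V : W.Opens) : Γ(K.R, K.ρ ⁻¹ᵁ V) →+* Γ(K.R3, K.ρ3 ⁻¹ᵁ V) := tk K.p23 K.w23 V

theorem tk_app {m : X ⟶ Y} {g : Y ⟶ W} {g' : X ⟶ W} (h : m ≫ g = g') {V : W.Opens} (a : Γ(W, V)) :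
    tk m h V (g.app V a) = g'.app V a := by
  subst h
  show m.appLE _ _ le_rfl (g.app V a) = _
  rw [← Scheme.Hom.app_eq_appLE, Scheme.Hom.comp_app]
  rfl

theorem Kernel.exists_point (x y : Y) (h : π x = π y) : ∃ z : K.R, K.r1 z = x ∧ K.r2 z = y := by
  obtain ⟨z, hz1, hz2⟩ := Scheme.Pullback.exists_preimage_pullback (f := π) (g := π) x y h
  refine ⟨K.sq.isoPullback.inv z, ?_, ?_⟩
  · rw [← hz1, ← Scheme.Hom.comp_apply, K.sq.isoPullback_inv_fst]
  · rw [← hz2, ← Scheme.Hom.comp_apply, K.sq.isoPullback_inv_snd]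

theorem mem_basicOpen_sum_mul {Z : Scheme.{u}} {V : Z.Opens} {d : ℕ} (f g : Fin d → Γ(Z, V)) (x : Z) (hx : x ∈ V)
    (h : x ∈ Z.basicOpen (∑ i, f i * g i)) : ∃ i, x ∈ Z.basicOpen (f i) := by
  by_contra! H
  rw [Scheme.mem_basicOpen Z _ x hx, map_sum] at h
  refine (IsLocalRing.notMem_maximalIdeal.2 h) (Ideal.sum_mem _ fun i _ => ?_)
  rw [map_mul]
  refine Ideal.mul_mem_right _ _ ?_
  exact fun hu => H i ((Scheme.mem_basicOpen Z _ x hx).2 hu)

variable [IsFinite π] [Surjective π] {d : ℕ}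

/-- a multiplicative cocycle is locally the boundary of a unit -/
theorem Kernel.exists_invariant {U : W.Opens} (hU : IsAffineOpen U) {b : Fin d → Γ(Y, π ⁻¹ᵁ U)} (hb : IsBase π b)
    (u : Γ(K.R, K.ρ ⁻¹ᵁ U)) (hu : IsUnit u) (hc : K.S13 U u = K.S12 U u * K.S23 U u) {w : W} (hw : w ∈ U) :
    ∃ (U' : W.Opens) (hle : U' ≤ U) (c : Γ(Y, π ⁻¹ᵁ U')), w ∈ U' ∧ IsUnit c ∧
      K.T1 U' c = resR (K.ρ.preimage_mono hle) u * K.T2 U' c := by
  haveI : IsFinite K.r1 := MorphismProperty.of_isPullback K.sq.flip ‹_›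
  have hR : IsAffineOpen (K.ρ ⁻¹ᵁ U) := (hU.preimage π).preimage K.r1
  obtain ⟨c, hcu⟩ := (hb.baseChange hU (hU.preimage π) K.sq).2 u
  replace hcu : ∑ i, K.T1 U (c i) * K.T2 U (b i) = u := hcu
  let Q : Γ(Y, π ⁻¹ᵁ U) →+* Γ(K.R3, K.ρ3 ⁻¹ᵁ U) := tk K.q3 K.sq3.w.symm U
  have key : ∀ i, K.T1 U (c i) = u * K.T2 U (c i) := by
    have h1 : ∀ a, K.S13 U (K.T1 U a) = K.S12 U (K.T1 U a) := fun a => by
      rw [tk_tk, tk_tk]; exact tk_congr _ _ K.e1 a
    have h2 : ∀ a, K.S13 U (K.T2 U a) = Q a := fun a => by rw [tk_tk]; exact tk_congr _ _ K.e2 a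
    have h3 : ∀ a, K.S23 U (K.T1 U a) = K.S12 U (K.T2 U a) := fun a => by
      rw [tk_tk, tk_tk]; exact tk_congr _ _ K.e3 a
    have h4 : ∀ a, K.S23 U (K.T2 U a) = Q a := fun a => by rw [tk_tk]; exact tk_congr _ _ K.e4 a
    have e : ∑ i, K.S12 U (K.T1 U (c i)) * Q (b i) = ∑ i, K.S12 U (u * K.T2 U (c i)) * Q (b i) := by
      calc ∑ i, K.S12 U (K.T1 U (c i)) * Q (b i) = K.S13 U u := by
            rw [← hcu, map_sum]
            exact Finset.sum_congr rfl fun i _ => by rw [map_mul, h1, h2]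
        _ = K.S12 U u * K.S23 U u := hc
        _ = K.S12 U u * ∑ i, K.S12 U (K.T2 U (c i)) * Q (b i) := by
            refine congrArg (K.S12 U u * ·) ?_
            rw [← hcu, map_sum]
            exact Finset.sum_congr rfl fun i _ => by rw [map_mul, h3, h4]
        _ = _ := by
            rw [Finset.mul_sum]
            exact Finset.sum_congr rfl fun i _ => by rw [map_mul, mul_assoc]
    exact fun i => congrFun ((hb.baseChange hU hR K.sq3).1 e) i
  obtain ⟨q, hq⟩ := π.surjective w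
  obtain ⟨z, hz1, hz2⟩ := K.exists_point q q rfl
  have hzU : z ∈ K.ρ ⁻¹ᵁ U := by
    show π (K.r1 z) ∈ U
    rw [hz1, hq]; exact hw
  obtain ⟨i, hi⟩ := mem_basicOpen_sum_mul _ _ z hzU (by
    rw [hcu, Scheme.mem_basicOpen _ _ z hzU]
    exact hu.map _)
  rw [tk_mem_basicOpen _ _ z hzU, hz1] at hi
  let D := Y.basicOpen (c i)
  let Z : Set W := π '' ((D : Set Y)ᶜ)
  have hZ : IsClosed Z := π.isClosedMap _ D.isOpen.isClosed_compl
  let U' : W.Opens := U ⊓ ⟨Zᶜ, hZ.isOpen_compl⟩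
  have hwZ : w ∉ Z := by
    rintro ⟨x, hx, hxw⟩
    obtain ⟨z', hz'1, hz'2⟩ := K.exists_point q x (hq.trans hxw.symm)
    have hz'U : z' ∈ K.ρ ⁻¹ᵁ U := by
      show π (K.r1 z') ∈ U
      rw [hz'1, hq]; exact hw
    have h : z' ∈ K.R.basicOpen (K.T1 U (c i)) := by rwa [tk_mem_basicOpen _ _ z' hz'U, hz'1]
    rw [key i, Scheme.basicOpen_mul] at h
    have := (tk_mem_basicOpen _ _ z' hz'U).1 h.2
    rw [hz'2] at this
    exact hx this
  refine ⟨U', inf_le_left, resR (π.preimage_mono inf_le_left) (c i), ⟨hw, hwZ⟩,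
    isUnit_resR _ _ (fun x hx => not_not.1 fun h => hx.2 ⟨x, h, rfl⟩), ?_⟩
  rw [← tk_res (rfl : K.r1 ≫ π = K.ρ) inf_le_left, ← tk_res K.w2 inf_le_left]
  show resR _ (K.T1 U (c i)) = resR _ u * resR _ (K.T2 U (c i))
  rw [key i, map_mul]

omit K [IsFinite π] in
theorem app_injective
    (hπ : FlatMod.IsFinLocFreeOfRank d ((Scheme.Modules.pushforward π).obj (Coh.structureModule Y)))
    {O : W.Opens} : Function.Injective (π.app O) := by
  rw [injective_iff_map_eq_zero]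
  intro a ha
  refine eq_of_locally (M := Coh.structureModule W) (show Γ(Coh.structureModule W, O) from a) 0 fun w hw => ?_
  obtain ⟨U, hU, hwU, hUO, b, hb⟩ := exists_isBase π hπ hw
  obtain ⟨e, he⟩ := hb.2 1
  replace he : ∑ i, π.app U (e i) * b i = 1 := he
  have h0 : π.app U (resR hUO a) = 0 := by
    refine (ConcreteCategory.congr_hom (π.naturality (homOfLE hUO).op) a).trans ?_
    rw [CommRingCat.comp_apply, ha, map_zero]
  have h1 : ∀ i, resR hUO a * e i = 0 := congrFun (hb.1 (a₁ := fun i => resR hUO a * e i) (a₂ := fun _ => 0) (by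
    simp only [map_mul, h0, map_zero, zero_mul, Finset.sum_const_zero]))
  obtain ⟨q, hq⟩ := π.surjective w
  obtain ⟨i, hi⟩ := mem_basicOpen_sum_mul (fun i => π.app U (e i)) b q (show π q ∈ U by rw [hq]; exact hwU) (by
    rw [he, Scheme.basicOpen_one]
    show π q ∈ U
    rw [hq]; exact hwU)
  rw [← Scheme.preimage_basicOpen] at hi
  have hwD : w ∈ W.basicOpen (e i) := hq ▸ hi
  refine ⟨W.basicOpen (e i), (W.basicOpen_le _).trans hUO, hwD, ?_⟩
  show resR _ a = resR _ (0 : Γ(W, O))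
  rw [map_zero]
  have h2 := congrArg (resR (W.basicOpen_le (e i))) (h1 i)
  rw [map_mul, map_zero, resR_resR] at h2
  exact (isUnit_resR (W.basicOpen_le (e i)) (e i) le_rfl).mul_left_eq_zero.1 h2

/-- functions with equal pullbacks descend -/
theorem Kernel.exists_descend_fn
    (hπ : FlatMod.IsFinLocFreeOfRank d ((Scheme.Modules.pushforward π).obj (Coh.structureModule Y)))
    {O : W.Opens} (g : Γ(Y, π ⁻¹ᵁ O)) (hg : K.T1 O g = K.T2 O g) : ∃ a : Γ(W, O), π.app O a = g := by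
  have hnat : ∀ {V V' : W.Opens} (h : V' ≤ V) (a : Γ(W, V)),
      π.app V' (resR h a) = resR (π.preimage_mono h) (π.app V a) := fun h a =>
    ConcreteCategory.congr_hom (π.naturality (homOfLE h).op) a
  have hloc : ∀ w : O, ∃ (U : W.Opens) (hle : U ≤ O) (a : Γ(W, U)), w.1 ∈ U ∧
      π.app U a = resR (π.preimage_mono hle) g := by
    rintro ⟨w, hw⟩
    obtain ⟨U, hU, hwU, hUO, b, hb⟩ := exists_isBase π hπ hw
    obtain ⟨a, ha⟩ := hb.2 (resR (π.preimage_mono hUO) g)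
    obtain ⟨e, he⟩ := hb.2 1
    replace ha : ∑ i, π.app U (a i) * b i = resR (π.preimage_mono hUO) g := ha
    replace he : ∑ i, π.app U (e i) * b i = 1 := he
    have hgU : K.T1 U (resR (π.preimage_mono hUO) g) = K.T2 U (resR (π.preimage_mono hUO) g) := by
      rw [← tk_res (hV := hUO), ← tk_res (hV := hUO)]
      exact congrArg _ hg
    have h12 : ∀ x : Γ(W, U), K.T2 U (π.app U x) = K.T1 U (π.app U x) := fun x => by rw [tk_app, tk_app]
    have key : ∀ i, resR (π.preimage_mono hUO) g * π.app U (e i) = π.app U (a i) := by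
      refine congrFun ((hb.baseChange hU (hU.preimage π) K.sq).1 ?_)
      show ∑ i, K.T1 U (_ * π.app U (e i)) * K.T2 U (b i) = ∑ i, K.T1 U (π.app U (a i)) * K.T2 U (b i)
      calc ∑ i, K.T1 U (resR (π.preimage_mono hUO) g * π.app U (e i)) * K.T2 U (b i)
          = K.T1 U (resR (π.preimage_mono hUO) g) * K.T2 U (∑ i, π.app U (e i) * b i) := by
            rw [map_sum, Finset.mul_sum]
            exact Finset.sum_congr rfl fun i _ => by rw [map_mul, map_mul, h12, mul_assoc]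
        _ = K.T2 U (∑ i, π.app U (a i) * b i) := by rw [he, map_one, mul_one, hgU, ha]
        _ = _ := by
            rw [map_sum]
            exact Finset.sum_congr rfl fun i _ => by rw [map_mul, h12]
    obtain ⟨q, hq⟩ := π.surjective w
    have hqU : q ∈ π ⁻¹ᵁ U := by show π q ∈ U; rw [hq]; exact hwU
    obtain ⟨i, hi⟩ := mem_basicOpen_sum_mul (fun i => π.app U (e i)) b q hqU (by
      rw [he, Scheme.basicOpen_one]; exact hqU)
    rw [← Scheme.preimage_basicOpen] at hi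
    let D := W.basicOpen (e i)
    obtain ⟨v, hv⟩ := (isUnit_resR (W.basicOpen_le (e i)) (e i) le_rfl).exists_right_inv
    refine ⟨D, (W.basicOpen_le _).trans hUO, resR (W.basicOpen_le _) (a i) * v, hq ▸ hi, ?_⟩
    rw [map_mul, hnat, ← key i, map_mul, resR_resR, ← hnat (W.basicOpen_le (e i))]
    refine (mul_assoc _ _ _).trans ?_
    rw [← map_mul, hv, map_one, mul_one]
  choose U hU a hwU ha using hloc
  obtain ⟨A, hA, -⟩ := existsUnique_glue (M := Coh.structureModule W) (V := O) U hU (fun p hp => ⟨⟨p, hp⟩, hwU _⟩) a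
    fun i j => app_injective hπ (by
      show π.app _ (resR inf_le_left (a i)) = π.app _ (resR inf_le_right (a j))
      rw [hnat, hnat, ha, ha, resR_resR, resR_resR])
  refine ⟨A, eq_of_locally (M := Coh.structureModule Y) (show Γ(Coh.structureModule Y, π ⁻¹ᵁ O) from π.app O A) g
    fun p hp => ⟨π ⁻¹ᵁ U ⟨π p, hp⟩, π.preimage_mono (hU _), hwU ⟨π p, hp⟩, ?_⟩⟩
  show resR _ (π.app O A) = resR _ g
  rw [← hnat (hU _), ← ha]
  exact congrArg _ (hA _)

end Groth.Agent.FinDesc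

end
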