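import Groth.Agent.FinDesc.Rigid
import Groth.Agent.Lib.PicZeroPrim
import Groth.Agent.NMP.Basic

/-!
# Poincaré classes from finite flat surjective classifying maps

A rigidified family whose classifying map is finite, flat and surjective descends to a Poincaré class on the dual.
-/

noncomputable section

set_option autoImplicit false
set_option backward.isDefEq.respectTransparency false
set_option backward.isDefEq.respectTransparency.types false
set_option linter.style.haveILetI false
set_option maxHeartbeats 1000000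
set_option synthInstance.maxHeartbeats 400000

universe u

open CategoryTheory CategoryTheory.Limits MonoidalCategory CartesianMonoidalCategory MonObj AlgebraicGeometry TopologicalSpace

attribute [-instance] CategoryTheory.catToReflQuiver

namespace Groth.Agent.FinDesc

open Groth.Agent.H23 Groth.Agent.H23.TrivBasic Groth.Agent.AbDualBase
open scoped Groth.Agent.H23.PicMul

variable {S : Scheme.{u}}

theorem isPullback_proj {X : Scheme.{u}} (f : X ⟶ S) {T T' : Over S} (g : T' ⟶ T) :
    IsPullback (PicF.XTmap f g) (PicF.XTproj f T') (PicF.XTproj f T) g.left := by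
  refine IsPullback.of_bot ?_ ?_ (IsPullback.of_hasPullback f T.hom).flip
    (v₁₁ := PicF.XTmap f g) |>.flip
  · rw [show PicF.XTmap f g ≫ pullback.fst f T.hom = pullback.fst f T'.hom ≫ 𝟙 X from pullback.lift_fst _ _ _,
      Category.comp_id, Over.w g]
    exact (IsPullback.of_hasPullback f T'.hom).flip
  · exact (pullback.lift_snd _ _ _).symm

/-- pullback squares over the base give pullback squares of the products -/
theorem isPullback_xtMap_sq {X : Scheme.{u}} (f : X ⟶ S) {T T₁ T₂ B : Over S} {p : T ⟶ T₁} {q : T ⟶ T₂}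
    {g : T₁ ⟶ B} {h : T₂ ⟶ B} (hp : p ≫ g = q ≫ h) (sq : IsPullback p.left q.left g.left h.left) :
    IsPullback (PicF.XTmap f p) (PicF.XTmap f q) (PicF.XTmap f g) (PicF.XTmap f h) := by
  have hw : ∀ {U V : Over S} (m : U ⟶ V), PicF.XTmap f m ≫ PicF.XTproj f V = PicF.XTproj f U ≫ m.left :=
    fun m => pullback.lift_snd _ _ _
  refine IsPullback.of_bot ?_ ?_ (isPullback_proj f h)
  · rw [hw q, hw g]
    exact (isPullback_proj f p).paste_vert sq
  · rw [← PicClLib.XTmap_comp, ← PicClLib.XTmap_comp, hp]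

theorem secT_proj {A : Over S} [GrpObj A] (T : Over S) :
    PicF.secT A.hom η[A].left (Over.w η[A]) T ≫ PicF.XTproj A.hom T = 𝟙 _ :=
  pullback.lift_snd _ _ _

theorem secT_xtMap {A : Over S} [GrpObj A] {T T' : Over S} (g : T' ⟶ T) :
    PicF.secT A.hom η[A].left (Over.w η[A]) T' ≫ PicF.XTmap A.hom g =
      g.left ≫ PicF.secT A.hom η[A].left (Over.w η[A]) T := by
  rw [PicZeroPrim.secT_eq, PicZeroPrim.secT_eq, PicZeroPrim.xtMap_eq, ← Over.comp_left, ← Over.comp_left]
  congr 1
  ext <;> simp

variable {A : Over S} [GrpObj A] [IsCommMonObj A] [IsProper A.hom] [Smooth A.hom] [GeometricallyConnected A.hom]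

/-- functions on a product with an abelian scheme are determined on the unit section -/
theorem secT_appTop_injective (T : Over S) :
    Function.Injective (PicF.secT A.hom η[A].left (Over.w η[A]) T).appTop := by
  let p := PicF.XTproj A.hom T
  haveI : IsProper p := inferInstanceAs (IsProper (pullback.snd A.hom T.hom))
  haveI : Smooth p := inferInstanceAs (Smooth (pullback.snd A.hom T.hom))
  haveI : GeometricallyConnected p := inferInstanceAs (GeometricallyConnected (pullback.snd A.hom T.hom))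
  haveI : GeometricallyReduced p := RigidGamma.geometricallyReduced_of_smooth p
  have hb : Function.Bijective p.appTop :=
    SectionGamma.bijective_app p (RigidGamma.constFibres p) _ (secT_proj T) ⊤
  have hc : ∀ a, (PicF.secT A.hom η[A].left (Over.w η[A]) T).appTop (p.appTop a) = a := fun a => by
    rw [← CommRingCat.comp_apply, ← Scheme.Hom.comp_appTop, secT_proj, Scheme.Hom.id_appTop]
    rfl
  intro a b hab
  obtain ⟨a', rfl⟩ := hb.2 a
  obtain ⟨b', rfl⟩ := hb.2 b
  rw [hc, hc] at hab
  rw [hab]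

variable {At : Over S} [GrpObj At] [IsProper At.hom]
  {φ : ∀ T : Over S, PicF.Cl (PicF.XT A.hom T) → (T ⟶ At)}
  (hφ : AbDual.IsDualAV Scheme.fppfPrecoverage A At φ)
include hφ

/-- a rigidified family with finite locally free classifying map of constant rank descends -/
theorem exists_descent_class {T : Over S} {c : PicF.Cl (PicF.XT A.hom T)} (hc : AbDual.IsPicZeroCl A.hom T c)
    (hs : PicF.pullCl (PicF.secT A.hom η[A].left (Over.w η[A]) T) c = 1) {d : ℕ}
    (hf : FinCov.IsCover (φ T c).left d) [Surjective (φ T c).left] :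
    ∃ e : PicF.Cl (PicF.XT A.hom At), PicF.IsInvertibleCl e ∧ PicF.pullCl (PicF.XTmap A.hom (φ T c)) e = c := by
  obtain ⟨Λ, rfl, hΛi, -⟩ := id hc
  let f := φ T (PicF.cl Λ)
  let π := PicF.XTmap A.hom f
  have sqπ := isPullback_proj A.hom f
  haveI : IsFinite f.left := hf.1.1
  haveI : Flat f.left := hf.1.2.1
  haveI : LocallyOfFinitePresentation f.left := hf.1.2.2
  haveI : IsFinite π := MorphismProperty.of_isPullback sqπ.flip inferInstance
  haveI : Flat π := MorphismProperty.of_isPullback sqπ.flip inferInstance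
  haveI : LocallyOfFinitePresentation π := MorphismProperty.of_isPullback sqπ.flip inferInstance
  haveI : Surjective π := MorphismProperty.of_isPullback sqπ.flip inferInstance
  have hπ : FinCov.IsCover π d :=
    ⟨⟨inferInstance, inferInstance, inferInstance⟩, fun y =>
      (Scheme.Hom.finrank_of_isPullback _ _ _ _ sqπ.flip y).trans (hf.2 _)⟩
  let T2 : Over S := Over.mk (pullback.fst f.left f.left ≫ T.hom)
  let a : T2 ⟶ T := Over.homMk (pullback.fst f.left f.left) rfl
  let b : T2 ⟶ T := Over.homMk (pullback.snd f.left f.left) (by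
    show pullback.snd f.left f.left ≫ T.hom = pullback.fst f.left f.left ≫ T.hom
    rw [← Over.w f, pullback.condition_assoc])
  have hab : a ≫ f = b ≫ f := Over.OverMorphism.ext pullback.condition
  have sq2 : IsPullback a.left b.left f.left f.left := IsPullback.of_hasPullback f.left f.left
  let g2 : T2 ⟶ At := a ≫ f
  let T3 : Over S := Over.mk (pullback.fst g2.left f.left ≫ T2.hom)
  let i12 : T3 ⟶ T2 := Over.homMk (pullback.fst g2.left f.left) rfl
  let i3 : T3 ⟶ T := Over.homMk (pullback.snd g2.left f.left) (by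
    show pullback.snd g2.left f.left ≫ T.hom = pullback.fst g2.left f.left ≫ T2.hom
    rw [← Over.w f, ← Over.w g2, pullback.condition_assoc])
  have h3 : i12 ≫ g2 = i3 ≫ f := Over.OverMorphism.ext pullback.condition
  have sq3 : IsPullback i12.left i3.left g2.left f.left := IsPullback.of_hasPullback g2.left f.left
  have hpair : ∀ (x y : T3 ⟶ T), x ≫ f = y ≫ f → ∃ z : T3 ⟶ T2, z ≫ a = x ∧ z ≫ b = y := fun x y hxy => by
    refine ⟨Over.homMk (pullback.lift x.left y.left (congrArg CommaMorphism.left hxy)) ?_,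
      Over.OverMorphism.ext (pullback.lift_fst _ _ _), Over.OverMorphism.ext (pullback.lift_snd _ _ _)⟩
    show pullback.lift x.left y.left _ ≫ pullback.fst f.left f.left ≫ T.hom = T3.hom
    rw [pullback.lift_fst_assoc]
    exact Over.w x
  obtain ⟨i13, e1, e2⟩ := hpair (i12 ≫ a) i3 (by rw [Category.assoc]; exact h3)
  obtain ⟨i23, e3, e4⟩ := hpair (i12 ≫ b) i3 (by rw [Category.assoc, ← hab]; exact h3)
  have hm : ∀ {U V W : Over S} (m : U ⟶ V) (n : V ⟶ W),
      PicF.XTmap A.hom m ≫ PicF.XTmap A.hom n = PicF.XTmap A.hom (m ≫ n) := fun m n => (PicClLib.XTmap_comp _ _ _).symm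
  let K : Kernel π :=
    { R := PicF.XT A.hom T2
      R3 := PicF.XT A.hom T3
      r1 := PicF.XTmap A.hom a
      r2 := PicF.XTmap A.hom b
      p12 := PicF.XTmap A.hom i12
      p13 := PicF.XTmap A.hom i13
      p23 := PicF.XTmap A.hom i23
      q3 := PicF.XTmap A.hom i3
      sq := isPullback_xtMap_sq A.hom hab sq2
      sq3 := by
        rw [show PicF.XTmap A.hom a ≫ π = PicF.XTmap A.hom g2 from hm a f]
        exact isPullback_xtMap_sq A.hom h3 sq3
      e1 := by rw [hm, hm, e1]
      e2 := by rw [hm, e2]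
      e3 := by rw [hm, hm, e3]
      e4 := by rw [hm, e4] }
  let s := fun U : Over S => PicF.secT A.hom η[A].left (Over.w η[A]) U
  have hθ : PicF.pullCl (PicF.XTmap A.hom a) (PicF.cl Λ) = PicF.pullCl (PicF.XTmap A.hom b) (PicF.cl Λ) := by
    refine PicZeroPrim.eq_of_phi hφ (pz_xtMap a hc) (pz_xtMap b hc)
      (by rw [hφ.relPic.natural _ _ a _ hc, hφ.relPic.natural _ _ b _ hc]; exact hab) ?_
    rw [PicClLib.pullCl_comp, PicClLib.pullCl_comp, secT_xtMap, secT_xtMap, ← PicClLib.pullCl_comp,
      ← PicClLib.pullCl_comp, hs, pullCl_one', pullCl_one']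
  obtain ⟨θ⟩ := (PicGrp.cl_eq_cl_iff _ _).1 hθ
  obtain ⟨P, hP, ⟨eP⟩⟩ := exists_descent_rigid K (CoverPush.isFinLocFreeOfRank_push_of_isCover π hπ) hΛi θ
    (s T) ((PicGrp.cl_eq_cl_iff _ _).1 hs) (s T2) (PicF.XTproj A.hom T2) (secT_proj T2) a.left b.left
    (secT_xtMap a) (secT_xtMap b) (s T3) i12.left i13.left i23.left (secT_xtMap i12) (secT_xtMap i13)
    (secT_xtMap i23) (congrArg CommaMorphism.left e1)
    ((congrArg CommaMorphism.left e2).trans (congrArg CommaMorphism.left e4).symm)
    (congrArg CommaMorphism.left e3) (secT_appTop_injective T3)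
  exact ⟨PicF.cl P, ⟨P, rfl, hP⟩, (PicGrp.cl_eq_cl_iff _ _).2 ⟨eP⟩⟩

variable [GeometricallyConnected At.hom]

/-- descended rigidified families with the right slice are Poincaré classes -/
theorem exists_poincare {T : Over S} (t₀ : 𝟙_ (Over S) ⟶ T) {c : PicF.Cl (PicF.XT A.hom T)}
    (hc : AbDual.IsPicZeroCl A.hom T c)
    (hs : PicF.pullCl (PicF.secT A.hom η[A].left (Over.w η[A]) T) c = 1)
    (hslice : PicF.pullCl (lift (𝟙 A) (toUnit A ≫ t₀)).left c = 1) {d : ℕ}
    (hf : FinCov.IsCover (φ T c).left d) [Surjective (φ T c).left] :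
    ∃ P : (PicF.XT A.hom At).Modules, PicF.IsInvertible P ∧ AbDual.IsPoincareCl A At φ (PicF.cl P) ∧
      PicF.pullCl (PicF.XTmap A.hom (φ T c)) (PicF.cl P) = c := by
  let f := φ T c
  haveI : IsFinite f.left := hf.1.1
  haveI : Flat f.left := hf.1.2.1
  haveI : LocallyOfFinitePresentation f.left := hf.1.2.2
  obtain ⟨e, hei, hec⟩ := exists_descent_class hφ hc hs hf
  -- normalise along the unit section
  let σ := PicF.secT A.hom η[A].left (Over.w η[A]) At
  obtain ⟨N, hN, hNi⟩ := PicClLib.isInvertibleCl_pullCl σ hei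
  obtain ⟨N', hN'i, hNN'⟩ := PicInv.exists_inverse hNi
  have hn : PicF.cl N * PicF.cl N' = 1 := (PicGrp.cl_eq_cl_iff _ _).2 hNN'
  let n : PicF.Cl At.left := PicF.cl N'
  have hni : PicF.IsInvertibleCl n := ⟨N', rfl, hN'i⟩
  obtain ⟨P, hP, hPi⟩ := PicMul.isInvertibleCl_mul (PicClLib.isInvertibleCl_pullCl (PicF.XTproj A.hom At) hni) hei
  have hσ : PicF.pullCl σ (PicF.cl P) = 1 := by
    rw [hP, PicMul.pullCl_mul, PicClLib.pullCl_comp, secT_proj, PicClLib.pullCl_id, ← hN, mul_comm]
    exact hn
  have hfP : PicF.pullCl (PicF.XTmap A.hom f) (PicF.cl P) = c := by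
    have h1 : PicF.pullCl f.left n = 1 := by
      have h2 : PicF.pullCl f.left (PicF.cl N) = 1 := by
        rw [hN, PicClLib.pullCl_comp, ← secT_xtMap, ← PicClLib.pullCl_comp, hec, hs]
      have h3 := congrArg (PicF.pullCl f.left) hn
      rw [PicMul.pullCl_mul, h2, _root_.one_mul, pullCl_one'] at h3
      exact h3
    rw [hP, PicMul.pullCl_mul, hec, PicClLib.pullCl_comp,
      show PicF.XTmap A.hom f ≫ PicF.XTproj A.hom At = PicF.XTproj A.hom T ≫ f.left from pullback.lift_snd _ _ _,
      ← PicClLib.pullCl_comp, h1, pullCl_one', _root_.one_mul]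
  have hz : AbDual.IsPicZeroCl A.hom At (PicF.cl P) := by
    refine pz_of_slice (A := A) (B := At) (t₀ ≫ f) ⟨P, rfl, hPi⟩ (n := 1)
      ⟨_, rfl, InvX.isInvertible_structureModule⟩ ?_
    rw [pullCl_one']
    have h4 : (lift (𝟙 A) (toUnit A ≫ t₀ ≫ f)).left = (lift (𝟙 A) (toUnit A ≫ t₀)).left ≫ PicF.XTmap A.hom f := by
      rw [PicZeroPrim.xtMap_eq, ← Over.comp_left]
      congr 1
      ext <;> simp
    rw [h4, ← PicClLib.pullCl_comp, hfP, hslice]
  refine ⟨P, hPi, ⟨hz, ?_, hσ⟩, hfP⟩
  refine NMP.epi_of_cover f ?_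
  rw [← hφ.relPic.natural _ _ f _ hz, hfP, Category.comp_id]

end Groth.Agent.FinDesc

end
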