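import Groth.Agent.FinDesc.Glue
import Groth.Agent.InvUfdLib.Semilocal
import Groth.Agent.H23.TrivBasic
import Mathlib.Tactic.Abel

/-!
# Descent of rigidified invertible modules along finite locally free morphisms

An isomorphism of the two pullbacks is normalised along a section; the cocycle defect is then trivial as soon as
functions on the triple product are determined by their restriction to the section.
-/

noncomputable section

set_option autoImplicit false
set_option backward.isDefEq.respectTransparency false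
set_option backward.isDefEq.respectTransparency.types false
set_option linter.style.haveILetI false

universe u

open CategoryTheory CategoryTheory.Limits AlgebraicGeometry TopologicalSpace Opposite

namespace Groth.Agent.FinDesc

open Groth.Agent.AModX Groth.Agent.InvX

section Group

theorem add_ratio_eq {G : Type*} [AddCommGroup G] {a a' x' y' G1 G2 : G} (h : G1 + a' = a + G2) :
    a + (G2 + y') - (G1 + x') = a' + y' - x' := by
  rw [← add_assoc, ← h]
  abel

theorem ratio_eq {G : Type*} [CommGroup G] {a a' x' y' G1 G2 : G} (h : G1 * a' = a * G2) :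
    a * (G2 * y') / (G1 * x') = a' * y' / x' :=
  add_ratio_eq (G := Additive G) h

theorem add_defect_eq {G : Type*} [AddCommGroup G] {p p' q q' r r' A1 A2 A3 : G} (hp : A1 + p' = p + A2)
    (hq : A2 + q' = q + A3) (hr : A1 + r' = r + A3) : p + q - r = p' + q' - r' := by
  rw [eq_sub_of_add_eq hp.symm, eq_sub_of_add_eq hq.symm, eq_sub_of_add_eq hr.symm]
  abel

theorem defect_eq {G : Type*} [CommGroup G] {p p' q q' r r' A1 A2 A3 : G} (hp : A1 * p' = p * A2)
    (hq : A2 * q' = q * A3) (hr : A1 * r' = r * A3) : p * q / r = p' * q' / r' :=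
  add_defect_eq (G := Additive G) hp hq hr

theorem add_defect_zero {G : Type*} [AddCommGroup G] {a b c x y z : G} (ha : a + y = x) (hb : b + z = y)
    (hc : c + z = x) : a + b - c = 0 := by
  rw [eq_sub_of_add_eq ha, eq_sub_of_add_eq hb, eq_sub_of_add_eq hc]
  abel

theorem defect_one {G : Type*} [CommGroup G] {a b c x y z : G} (ha : a * y = x) (hb : b * z = y)
    (hc : c * z = x) : a * b / c = 1 :=
  add_defect_zero (G := Additive G) ha hb hc

end Group

variable {W Y : Scheme.{u}}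

/-- frames on preimages of small opens of the base -/
theorem exists_frame_preimage (π : Y ⟶ W) [IsFinite π] {L : Y.Modules} (hL : PicF.IsInvertible L) (y : W) :
    ∃ (V : W.Opens) (e : Γ(L, π ⁻¹ᵁ V)), y ∈ V ∧ IsFrame e := by
  obtain ⟨_, ⟨V₀, hV₀, rfl⟩, hyV₀, -⟩ :=
    W.isBasis_affineOpens.exists_subset_of_mem_open (Set.mem_univ y) isOpen_univ
  have hd : ∀ x ∈ π ⁻¹' {y}, ∀ x' ∈ π ⁻¹' {y}, x ⤳ x' → x = x' := by
    intro x hx x' hx' h
    have := (π.isDiscrete_preimage_singleton y).1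
    have h' : (⟨x, hx⟩ : π ⁻¹' {y}) ⤳ ⟨x', hx'⟩ := (subtype_specializes_iff _ _).2 h
    exact congrArg Subtype.val h'.eq
  obtain ⟨O, s, hFO, hs⟩ := InvUfdLib.exists_frame_finset hL (hV₀.preimage π) (π ⁻¹' {y})
    (π.finite_preimage_singleton y) (fun x (hx : π x = y) => show π x ∈ V₀ from hx ▸ hyV₀) hd
  let Z : Set W := π '' ((O : Set Y)ᶜ)
  have hZ : IsClosed Z := π.isClosedMap _ O.isOpen.isClosed_compl
  let V : W.Opens := ⟨Zᶜ, hZ.isOpen_compl⟩
  have hy : y ∈ V := by
    rintro ⟨x, hx, rfl⟩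
    exact hx (hFO rfl)
  exact ⟨V, res L (show π ⁻¹ᵁ V ≤ O from fun x hx => not_not.1 fun h => hx ⟨x, h, rfl⟩) s, hy, hs.res _⟩

/-- compatible units on a scheme over the base glue to a unit -/
theorem exists_glue_unit {X : Scheme.{u}} (σ : X ⟶ W) (V : W → W.Opens) (hV : ∀ w, w ∈ V w)
    (v : ∀ w, (Γ(X, σ ⁻¹ᵁ V w))ˣ)
    (hv : ∀ w w', ures (σ.preimage_mono (inf_le_left : V w ⊓ V w' ≤ V w)) (v w) =
      ures (σ.preimage_mono inf_le_right) (v w')) :
    ∃ d : (Γ(X, ⊤))ˣ, ∀ w, ures le_top d = v w := by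
  obtain ⟨D, hD, -⟩ := existsUnique_glue (M := Coh.structureModule X) (V := ⊤) (fun w => σ ⁻¹ᵁ V w)
    (fun w => le_top) (fun p _ => ⟨σ p, hV _⟩) (fun w => (v w).1) fun w w' => congrArg Units.val (hv w w')
  have hu : IsUnit (show Γ(X, ⊤) from D) := by
    refine X.toLocallyRingedSpace.toRingedSpace.isUnit_of_isUnit_germ ⊤ _ fun p _ => ?_
    have h := congrArg (X.presheaf.germ (σ ⁻¹ᵁ V (σ p)) p (hV _)) (hD (σ p))
    have h' : X.presheaf.germ (σ ⁻¹ᵁ V (σ p)) p (hV _) (resR le_top (show Γ(X, ⊤) from D)) =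
        X.presheaf.germ ⊤ p trivial D := X.presheaf.germ_res_apply _ _ _ _
    rw [← h', show resR le_top (show Γ(X, ⊤) from D) = (v (σ p)).1 from hD (σ p)]
    exact (v (σ p)).isUnit.map _
  exact ⟨hu.unit, fun w => Units.ext (hD w)⟩

variable {π : Y ⟶ W} [IsFinite π] [Surjective π] {d : ℕ} {Λ : Y.Modules}

set_option maxHeartbeats 1000000 in
/-- rigidified invertible modules descend along finite locally free surjections -/
theorem exists_descent_rigid (K : Kernel π)
    (hπ : FlatMod.IsFinLocFreeOfRank d ((Scheme.Modules.pushforward π).obj (Coh.structureModule Y)))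
    (hΛ : PicF.IsInvertible Λ) (θ : (Scheme.Modules.pullback K.r1).obj Λ ≅ (Scheme.Modules.pullback K.r2).obj Λ)
    {U1 U2 U3 : Scheme.{u}} (s1 : U1 ⟶ Y) (hs1 : H23.TrivBasic.Triv ((Scheme.Modules.pullback s1).obj Λ))
    (s2 : U2 ⟶ K.R) (q2 : K.R ⟶ U2) (hq2 : s2 ≫ q2 = 𝟙 _) (t1 t2 : U2 ⟶ U1) (ht1 : s2 ≫ K.r1 = t1 ≫ s1)
    (ht2 : s2 ≫ K.r2 = t2 ≫ s1) (s3 : U3 ⟶ K.R3) (t12 t13 t23 : U3 ⟶ U2) (h12 : s3 ≫ K.p12 = t12 ≫ s2)
    (h13 : s3 ≫ K.p13 = t13 ≫ s2) (h23 : s3 ≫ K.p23 = t23 ≫ s2) (c1 : t13 ≫ t1 = t12 ≫ t1)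
    (c2 : t13 ≫ t2 = t23 ≫ t2) (c3 : t23 ≫ t1 = t12 ≫ t2) (hinj : Function.Injective s3.appTop) :
    ∃ P : W.Modules, PicF.IsInvertible P ∧ Nonempty ((Scheme.Modules.pullback π).obj P ≅ Λ) := by
  classical
  obtain ⟨F⟩ := exists_frames hπ (exists_frame_preimage π hΛ)
  obtain ⟨u, hu⟩ := F.exists_compat K θ
  let σ1 : U1 ⟶ W := s1 ≫ π
  let σ2 : U2 ⟶ W := s2 ≫ K.ρ
  let σ3 : U3 ⟶ W := s3 ≫ K.ρ3
  have w1 : t1 ≫ σ1 = σ2 := by simp only [σ1, σ2, Kernel.ρ]; rw [← Category.assoc, ← ht1, Category.assoc]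
  have w2 : t2 ≫ σ1 = σ2 := by
    simp only [σ1, σ2, Kernel.ρ]
    rw [← Category.assoc, ← ht2, Category.assoc, K.w2]
  have w12 : t12 ≫ σ2 = σ3 := by simp only [σ2, σ3, Kernel.ρ3]; rw [← Category.assoc, ← h12, Category.assoc]
  have w13 : t13 ≫ σ2 = σ3 := by simp only [σ2, σ3]; rw [← Category.assoc, ← h13, Category.assoc, K.w13]
  have w23 : t23 ≫ σ2 = σ3 := by simp only [σ2, σ3]; rw [← Category.assoc, ← h23, Category.assoc, K.w23]
  -- the coordinates along the section
  let ψ := hs1.some.symm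
  let f : Γ((Scheme.Modules.pullback s1).obj Λ, ⊤) :=
    ψ.hom.app ⊤ (show Γ(Coh.structureModule U1, ⊤) from (1 : Γ(U1, ⊤)))
  have hf : IsFrame f := (InvUfdLib.isFrame_one (X := U1)).map_iso ψ
  have hh : ∀ w, ∃ h : (Γ(U1, σ1 ⁻¹ᵁ F.V w))ˣ, pk (g := π) (g' := σ1) s1 rfl (F.e w) =
      (h : Γ(U1, σ1 ⁻¹ᵁ F.V w)) • res _ le_top f := fun w => by
    have h1 := isFrame_pk (m := s1) (g' := σ1) rfl (F.isFrame w)
    obtain ⟨a, ha⟩ := hf.exists_coord le_top (pk (g := π) (g' := σ1) s1 rfl (F.e w))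
    exact ⟨(isUnit_coord h1 (hf.res _) ha).unit, ha⟩
  choose h hh using hh
  let S1 := fun (V : W.Opens) => utk (W := W) (g := π) (g' := σ1) s1 rfl V
  have hhr : ∀ w w', ures (σ1.preimage_mono (inf_le_left : F.V w ⊓ F.V w' ≤ F.V w)) (h w) =
      S1 _ (F.g w w') * ures (σ1.preimage_mono inf_le_right) (h w') := fun w w' => Units.ext <| by
    refine (hf.res le_top).coord_unique le_rfl ?_
    rw [res_self]
    show resR _ (h w).1 • res _ le_top f = (tk s1 rfl _ (F.g w w').1 * resR _ (h w').1) • _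
    rw [mul_smul, ← res_res (le_top : σ1 ⁻¹ᵁ F.V w ≤ ⊤) (σ1.preimage_mono (inf_le_left : F.V w ⊓ F.V w' ≤ F.V w)),
      ← res_smul, ← hh, pk_res (hV := inf_le_left), F.spec, pk_smul]
    refine congrArg (_ • ·) ?_
    rw [← pk_res (hV := inf_le_right), hh, res_smul]
    simp only [res_res]
  -- the mismatch along the section
  let T1 := fun (V : W.Opens) => utk (W := W) (g := σ1) (g' := σ2) t1 w1 V
  let T2 := fun (V : W.Opens) => utk (W := W) (g := σ1) (g' := σ2) t2 w2 V
  let S2 := fun (V : W.Opens) => utk (W := W) (g := K.ρ) (g' := σ2) s2 rfl V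
  let v := fun w => S2 _ (u w) * T2 _ (h w) / T1 _ (h w)
  have hv : ∀ w w', ures (σ2.preimage_mono (inf_le_left : F.V w ⊓ F.V w' ≤ F.V w)) (v w) =
      ures (σ2.preimage_mono inf_le_right) (v w') := by
    intro w w'
    simp only [v, S2, T1, T2, map_div, map_mul]
    rw [utk_res (hV := inf_le_left), utk_res (hV := inf_le_left), utk_res (hV := inf_le_left),
      utk_res (hV := inf_le_right), utk_res (hV := inf_le_right), utk_res (hV := inf_le_right), hhr, map_mul, map_mul]
    refine ratio_eq ?_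
    have e := congrArg (utk (W := W) (g := K.ρ) (g' := σ2) s2 rfl _) (hu w w')
    rw [map_mul, map_mul, utk_utk, utk_utk] at e
    simp only [S1]
    rw [utk_utk, utk_utk, utk_congr (h' := by rw [Category.assoc]) (e := ht1.symm),
      utk_congr (m := t2 ≫ s1) (h' := by rw [Category.assoc, K.w2]) (e := ht2.symm)]
    exact e
  obtain ⟨D, hD⟩ := exists_glue_unit σ2 F.V F.mem v hv
  -- the normalised units
  let DR : (Γ(K.R, ⊤))ˣ := Units.map q2.appTop.hom.toMonoidHom D
  let u' := fun w => u w / ures le_top DR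
  have hu' : F.Compat K u' := fun w w' => by
    simp only [u', map_div, ures_ures]
    rw [← mul_div_assoc, hu w w', div_mul_eq_mul_div]
  have hs2 : ∀ w, S2 _ (u' w) * T2 _ (h w) = T1 _ (h w) := by
    intro w
    have e : S2 _ (ures le_top DR) = v w := by
      rw [← hD w]
      refine Units.ext ?_
      show tk s2 rfl _ (resR _ (q2.appTop D.1)) = resR _ D.1
      refine (ConcreteCategory.congr_hom (Scheme.Hom.map_appLE s2 (pre_le rfl (F.V w)) (homOfLE le_top).op)
        (q2.appTop D.1)).trans ?_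
      have h1 : ∀ (e : σ2 ⁻¹ᵁ F.V w ≤ s2 ⁻¹ᵁ ⊤), s2.appLE ⊤ _ e (q2.appTop D.1) =
          U2.presheaf.map (homOfLE le_top).op ((s2 ≫ q2).appTop D.1) := fun e => by
        rw [Scheme.Hom.comp_appTop]
        rfl
      rw [h1, hq2]
      rfl
    simp only [u', map_div, e]
    simp only [v]
    rw [div_div_eq_mul_div, div_mul_eq_mul_div, mul_assoc, mul_comm (T1 _ (h w)) (T2 _ (h w))]
    rw [← mul_assoc, mul_div_cancel_left]
  -- the defect
  let S12 := fun (V : W.Opens) => utk (W := W) (g := K.ρ) (g' := K.ρ3) K.p12 rfl V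
  let S13 := fun (V : W.Opens) => utk (W := W) (g := K.ρ) (g' := K.ρ3) K.p13 K.w13 V
  let S23 := fun (V : W.Opens) => utk (W := W) (g := K.ρ) (g' := K.ρ3) K.p23 K.w23 V
  let c := fun w => S12 _ (u' w) * S23 _ (u' w) / S13 _ (u' w)
  have hcv : ∀ w w', ures (K.ρ3.preimage_mono (inf_le_left : F.V w ⊓ F.V w' ≤ F.V w)) (c w) =
      ures (K.ρ3.preimage_mono inf_le_right) (c w') := by
    intro w w'
    simp only [c, S12, S13, S23, map_div, map_mul]
    rw [utk_res (hV := inf_le_left), utk_res (hV := inf_le_left), utk_res (hV := inf_le_left),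
      utk_res (hV := inf_le_right), utk_res (hV := inf_le_right), utk_res (hV := inf_le_right)]
    have e := hu' w w'
    refine defect_eq (A1 := utk (K.p12 ≫ K.r1) (by rw [Category.assoc]) _ (F.g w w'))
      (A2 := utk (K.p12 ≫ K.r2) (by rw [Category.assoc, K.w2]) _ (F.g w w'))
      (A3 := utk K.q3 K.sq3.w.symm _ (F.g w w')) ?_ ?_ ?_
    · have e' := congrArg (utk (W := W) (g := K.ρ) (g' := K.ρ3) K.p12 rfl _) e
      rw [map_mul, map_mul, utk_utk, utk_utk] at e'
      exact e'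
    · have e' := congrArg (utk (W := W) (g := K.ρ) (g' := K.ρ3) K.p23 K.w23 _) e
      rw [map_mul, map_mul, utk_utk, utk_utk, utk_congr (h' := by rw [Category.assoc, K.w2]) (e := K.e3),
        utk_congr (h' := K.sq3.w.symm) (e := K.e4)] at e'
      exact e'
    · have e' := congrArg (utk (W := W) (g := K.ρ) (g' := K.ρ3) K.p13 K.w13 _) e
      rw [map_mul, map_mul, utk_utk, utk_utk, utk_congr (h' := by rw [Category.assoc]) (e := K.e1),
        utk_congr (h' := K.sq3.w.symm) (e := K.e2)] at e'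
      exact e'
  obtain ⟨C, hC⟩ := exists_glue_unit K.ρ3 F.V F.mem c hcv
  let S3 := fun (V : W.Opens) => utk (W := W) (g := K.ρ3) (g' := σ3) s3 rfl V
  have hc3 : ∀ w, S3 _ (c w) = 1 := by
    intro w
    simp only [c, map_div, map_mul]
    have hs := hs2 w
    refine defect_one (x := utk (t12 ≫ t1) (by rw [Category.assoc, w1, w12]) _ (h w))
      (y := utk (t12 ≫ t2) (by rw [Category.assoc, w2, w12]) _ (h w))
      (z := utk (t23 ≫ t2) (by rw [Category.assoc, w2, w23]) _ (h w)) ?_ ?_ ?_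
    · have e := congrArg (utk (W := W) (g := σ2) (g' := σ3) t12 w12 _) hs
      simp only [S2, T1, T2, map_mul, utk_utk] at e
      simp only [S3, S12, utk_utk]
      rw [utk_congr (h' := by rw [Category.assoc]; exact w12) (e := h12)]
      exact e
    · have e := congrArg (utk (W := W) (g := σ2) (g' := σ3) t23 w23 _) hs
      simp only [S2, T1, T2, map_mul, utk_utk] at e
      simp only [S3, S23, utk_utk]
      rw [utk_congr (h' := by rw [Category.assoc]; exact w23) (e := h23)]
      rw [e]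
      exact utk_congr _ _ c3 _
    · have e := congrArg (utk (W := W) (g := σ2) (g' := σ3) t13 w13 _) hs
      simp only [S2, T1, T2, map_mul, utk_utk] at e
      simp only [S3, S13, utk_utk]
      rw [utk_congr (h' := by rw [Category.assoc]; exact w13) (e := h13),
        utk_congr (m := t23 ≫ t2) (h' := by rw [Category.assoc, w2, w13]) (e := c2.symm), e]
      exact utk_congr _ _ c1 _
  have hC1 : C = 1 := by
    refine Units.ext (hinj ?_)
    rw [show ((1 : (Γ(K.R3, ⊤))ˣ) : Γ(K.R3, ⊤)) = 1 from rfl, map_one]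
    refine eq_of_locally (M := Coh.structureModule U3) (V := ⊤) (show Γ(Coh.structureModule U3, ⊤) from s3.appTop C.1)
      (show Γ(Coh.structureModule U3, ⊤) from (1 : Γ(U3, ⊤))) fun p _ =>
        ⟨σ3 ⁻¹ᵁ F.V (σ3 p), le_top, F.mem _, ?_⟩
    show resR le_top (s3.appTop C.1) = resR le_top 1
    rw [map_one]
    refine Eq.trans ?_ (congrArg Units.val (hc3 (σ3 p)))
    rw [← hC]
    exact (ConcreteCategory.congr_hom (Scheme.Hom.map_appLE s3 (pre_le rfl (F.V (σ3 p))) (homOfLE le_top).op)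
      C.1).symm
  refine F.exists_descent K hπ u' hu' fun w => ?_
  have e := hC w
  rw [hC1, map_one] at e
  exact (div_eq_one.1 e.symm).symm

end Groth.Agent.FinDesc

end
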